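import Groth.Agent.Lib.Hilb20.Positive
import Mathlib.Analysis.Polynomial.Basic

/-!
# Multiplicities and comparison of reduced Hilbert polynomials
-/

set_option autoImplicit false
set_option linter.style.haveILetI false

universe u

open CategoryTheory CategoryTheory.Limits AlgebraicGeometry Polynomial Filter

noncomputable section

namespace GrothLib.Hilb20

open GrothLib.Snapper (DimLT)
open StabCat (alpha PolyLE PolyLT RedLE RedLT RedEq)

theorem eventually_eval_pos {P : ℚ[X]} {e : ℕ} (hd : P.degree < ((e + 1 : ℕ) : WithBot ℕ)) (hc : 0 < P.coeff e) :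
    ∃ N : ℕ, ∀ m : ℕ, N ≤ m → 0 < P.eval (m : ℚ) := by
  have h0 : P ≠ 0 := fun h => by simp [h] at hc
  have hnd : P.natDegree = e :=
    le_antisymm (Nat.lt_succ_iff.1 ((natDegree_lt_iff_degree_lt h0).2 hd)) (le_natDegree_of_ne_zero hc.ne')
  rcases Nat.eq_zero_or_pos e with rfl | he
  · exact ⟨0, fun m _ => by rw [eq_C_of_natDegree_eq_zero hnd, eval_C]; exact hc⟩
  have hlc : 0 ≤ P.leadingCoeff := by rw [leadingCoeff, hnd]; exact hc.le
  have hdeg : 0 < P.degree := by rw [degree_eq_natDegree h0, hnd]; exact_mod_cast he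
  exact eventually_atTop.1 (((tendsto_atTop_of_leadingCoeff_nonneg P hdeg hlc).comp
    tendsto_natCast_atTop_atTop).eventually_gt_atTop 0)

/-! ### Comparisons -/

theorem polyLE_refl (P : ℚ[X]) : PolyLE P P := ⟨0, fun _ _ => le_rfl⟩

theorem redLE_self (d : ℕ) (P : ℚ[X]) : RedLE d P P := polyLE_refl _

theorem redLE_of_redEq {d : ℕ} {P Q : ℚ[X]} (h : RedEq d P Q) : RedLE d P Q := by
  rw [RedLE, show alpha d Q • P = alpha d P • Q from h]; exact polyLE_refl _

theorem redEq_of_eq {d : ℕ} {P Q : ℚ[X]} (h : P = Q) : RedEq d P Q := by subst h; rfl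

theorem redEq_symm {d : ℕ} {P Q : ℚ[X]} (h : RedEq d P Q) : RedEq d Q P := Eq.symm h

theorem redLE_of_redLT {d : ℕ} {P Q : ℚ[X]} (h : RedLT d P Q) : RedLE d P Q := by
  obtain ⟨N, hN⟩ := h
  exact ⟨N, fun m hm => (hN m hm).le⟩

theorem not_redLE_of_redLT {d : ℕ} {P Q : ℚ[X]} (h : RedLT d P Q) : ¬ RedLE d Q P := fun h' => by
  obtain ⟨N, hN⟩ := h
  obtain ⟨M, hM⟩ := h'
  exact (hN _ (le_max_left N M)).not_ge (hM _ (le_max_right N M))

theorem alpha_add (d : ℕ) (P Q : ℚ[X]) : alpha d (P + Q) = alpha d P + alpha d Q := by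
  simp [alpha, mul_add]

theorem redLE_trans {d : ℕ} {P Q R : ℚ[X]} (hP : 0 ≤ alpha d P) (hQ : 0 < alpha d Q) (hR : 0 ≤ alpha d R)
    (h : RedLE d P Q) (h' : RedLE d Q R) : RedLE d P R := by
  obtain ⟨N, hN⟩ := h
  obtain ⟨M, hM⟩ := h'
  refine ⟨max N M, fun m hm => ?_⟩
  have h1 := hN m (le_of_max_le_left hm)
  have h2 := hM m (le_of_max_le_right hm)
  simp only [eval_smul, smul_eq_mul] at h1 h2 ⊢
  refine le_of_mul_le_mul_left ?_ hQ
  have e1 := mul_le_mul_of_nonneg_left h1 hR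
  have e2 := mul_le_mul_of_nonneg_left h2 hP
  linarith

theorem redLT_trans_left {d : ℕ} {P Q R : ℚ[X]} (hP : 0 ≤ alpha d P) (hQ : 0 < alpha d Q) (hR : 0 < alpha d R)
    (h : RedLT d P Q) (h' : RedLE d Q R) : RedLT d P R := by
  obtain ⟨N, hN⟩ := h
  obtain ⟨M, hM⟩ := h'
  refine ⟨max N M, fun m hm => ?_⟩
  have h1 := hN m (le_of_max_le_left hm)
  have h2 := hM m (le_of_max_le_right hm)
  simp only [eval_smul, smul_eq_mul] at h1 h2 ⊢
  refine lt_of_mul_lt_mul_left ?_ hQ.le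
  have e1 := mul_lt_mul_of_pos_left h1 hR
  have e2 := mul_le_mul_of_nonneg_left h2 hP
  linarith

theorem redLT_trans_right {d : ℕ} {P Q R : ℚ[X]} (hP : 0 < alpha d P) (hQ : 0 < alpha d Q) (hR : 0 ≤ alpha d R)
    (h : RedLE d P Q) (h' : RedLT d Q R) : RedLT d P R := by
  obtain ⟨N, hN⟩ := h
  obtain ⟨M, hM⟩ := h'
  refine ⟨max N M, fun m hm => ?_⟩
  have h1 := hN m (le_of_max_le_left hm)
  have h2 := hM m (le_of_max_le_right hm)
  simp only [eval_smul, smul_eq_mul] at h1 h2 ⊢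
  refine lt_of_mul_lt_mul_left ?_ hQ.le
  have e1 := mul_le_mul_of_nonneg_left h1 hR
  have e2 := mul_lt_mul_of_pos_left h2 hP
  linarith

theorem redLE_add_right {d : ℕ} {P Q : ℚ[X]} : RedLE d P (P + Q) ↔ RedLE d (P + Q) Q := by
  simp only [RedLE, PolyLE, alpha_add, eval_smul, eval_add, smul_eq_mul]
  refine exists_congr fun N => forall₂_congr fun m _ => ?_
  constructor <;> intro h <;> nlinarith [h]

theorem redLT_add_right {d : ℕ} {P Q : ℚ[X]} : RedLT d P (P + Q) ↔ RedLT d (P + Q) Q := by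
  simp only [RedLT, PolyLT, alpha_add, eval_smul, eval_add, smul_eq_mul]
  refine exists_congr fun N => forall₂_congr fun m _ => ?_
  constructor <;> intro h <;> nlinarith [h]

/-! ### Dimension, purity and multiplicities -/

variable {X : Scheme.{u}}

theorem not_dimLT_of_dim_eq {S : Set X} (hS : IsClosed S) {d : ℕ}
    (h : topologicalKrullDim S = (d : WithBot ℕ∞)) : ¬ DimLT S d := fun hlt => by
  cases d with
  | zero =>
    have : IsEmpty (TopologicalSpace.IrreducibleCloseds S) := by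
      refine ⟨fun C => ?_⟩
      obtain ⟨x, -⟩ := C.isIrreducible.nonempty
      exact (Snapper.eq_empty_of_dimLT_zero hlt ▸ x.2 : (x : X) ∈ (∅ : Set X))
    rw [topologicalKrullDim, Order.krullDim_eq_bot] at h
    exact WithBot.bot_ne_coe h
  | succ e =>
    have := (Snapper.dim_le_of_dimLT hS hlt).trans_lt' (h ▸ (by exact_mod_cast e.lt_succ_self) :
      (e : WithBot ℕ∞) < topologicalKrullDim S)
    exact lt_irrefl _ this

theorem support_eq_empty_of_isZero {F : X.Modules} (hF : IsZero F) : CohB1.support F = ∅ :=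
  Set.eq_empty_of_forall_notMem fun x hx =>
    hx (ModuleCat.isZero_iff_subsingleton.1 ((OX.stalk x).map_isZero hF))

theorem isZero_of_support_eq_empty {F : X.Modules} (h : CohB1.support F = ∅) : IsZero F := by
  rw [IsZero.iff_id_eq_zero]
  refine Scheme.Modules.hom_ext _ _ fun U => AddCommGrpCat.ext fun s => ?_
  have hs : (show Γ(F, U) from s) = 0 := QCoh.section_eq_zero_of_germ F _ fun x hx =>
    @Subsingleton.elim _ (QCoh.stalk_subsingleton_of_notMem fun hx' => by rw [h] at hx'; exact hx'.elim) _ _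
  exact hs

theorem exists_exact_dim {F : X.Modules} (hF : ¬ IsZero F) {d : ℕ} (hd : DimLT (CohB1.support F) d) :
    ∃ e < d, DimLT (CohB1.support F) (e + 1) ∧ ¬ DimLT (CohB1.support F) e := by
  classical
  have hex : ∃ n, DimLT (CohB1.support F) n := ⟨d, hd⟩
  have hpos : Nat.find hex ≠ 0 := fun h0 => hF (isZero_of_support_eq_empty
    (Snapper.eq_empty_of_dimLT_zero (h0 ▸ Nat.find_spec hex)))
  obtain ⟨e, he⟩ := Nat.exists_eq_succ_of_ne_zero hpos
  have hle : Nat.find hex ≤ d := Nat.find_min' hex hd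
  exact ⟨e, by omega, (he ▸ Nat.find_spec hex :), Nat.find_min hex (by omega)⟩

theorem isPure_dimLT {E F : X.Modules} {d : ℕ} (hE : ShStab.IsPure X E d) (ι : F ⟶ E) [Mono ι]
    (hF : Coh.IsCoh F) : DimLT (CohB1.support F) (d + 1) := by
  by_cases hz : IsZero F
  · intro l hl
    have := hl 0
    rw [support_eq_empty_of_isZero hz] at this
    exact this.elim
  · exact Snapper.dimLT_of_dim_le (hE F ι inferInstance hF hz).le

theorem isPure_not_dimLT {E F : X.Modules} {d : ℕ} (hE : ShStab.IsPure X E d) (ι : F ⟶ E) [Mono ι]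
    (hF : Coh.IsCoh F) (hz : ¬ IsZero F) : ¬ DimLT (CohB1.support F) d :=
  not_dimLT_of_dim_eq (QCoh.isClosed_support_of_isCoh hF) (hE F ι inferInstance hF hz)

variable {k : Type u} [Field k] [X.Over (Spec (CommRingCat.of k))] [IsProper (X ↘ Spec (CommRingCat.of k))]
  {L : X.Modules}

theorem exists_isHilbPoly {F : X.Modules} (hL : CohB1.IsAmple L) (hF : Coh.IsCoh F) {d : ℕ}
    (hd : DimLT (CohB1.support F) d) : ∃ P : ℚ[X], ShStab.IsHilbPoly k X L F P := by
  obtain ⟨P, hP, -⟩ := exists_isHilbPoly_of_dimLT (k := k) hL.1 hF hd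
  exact ⟨P, hP⟩

theorem alpha_nonneg {F : X.Modules} (hL : CohB1.IsAmple L) (hF : Coh.IsCoh F) {d : ℕ}
    (hd : DimLT (CohB1.support F) (d + 1)) {P : ℚ[X]} (hP : ShStab.IsHilbPoly k X L F P) : 0 ≤ alpha d P :=
  mul_nonneg (Nat.cast_nonneg _) (coeffPos d X L F hL hF hd P hP).1

theorem alpha_pos {F : X.Modules} (hL : CohB1.IsAmple L) (hF : Coh.IsCoh F) {d : ℕ}
    (hd : DimLT (CohB1.support F) (d + 1)) (hd' : ¬ DimLT (CohB1.support F) d) {P : ℚ[X]}
    (hP : ShStab.IsHilbPoly k X L F P) : 0 < alpha d P :=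
  mul_pos (by exact_mod_cast d.factorial_pos) ((coeffPos d X L F hL hF hd P hP).2 hd')

theorem alpha_eq_zero {F : X.Modules} (hL : CohB1.IsAmple L) (hF : Coh.IsCoh F) {d : ℕ}
    (hd : DimLT (CohB1.support F) d) {P : ℚ[X]} (hP : ShStab.IsHilbPoly k X L F P) : alpha d P = 0 := by
  rw [alpha, coeff_eq_zero_of_dimLT hL.1 hF hd hP le_rfl, mul_zero]

theorem alpha_pos_of_pure {E F : X.Modules} (hL : CohB1.IsAmple L) {d : ℕ} (hE : ShStab.IsPure X E d)
    (ι : F ⟶ E) [Mono ι] (hF : Coh.IsCoh F) (hz : ¬ IsZero F) {P : ℚ[X]}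
    (hP : ShStab.IsHilbPoly k X L F P) : 0 < alpha d P :=
  alpha_pos hL hF (isPure_dimLT hE ι hF) (isPure_not_dimLT hE ι hF hz) hP

theorem eval_pos {F : X.Modules} (hL : CohB1.IsAmple L) (hF : Coh.IsCoh F) (hz : ¬ IsZero F) {d : ℕ}
    (hd : DimLT (CohB1.support F) d) {P : ℚ[X]} (hP : ShStab.IsHilbPoly k X L F P) :
    ∃ N : ℕ, ∀ m : ℕ, N ≤ m → 0 < P.eval (m : ℚ) := by
  obtain ⟨e, -, h1, h2⟩ := exists_exact_dim hz hd
  exact eventually_eval_pos (degree_lt_of_dimLT hL.1 hF h1 hP) ((coeffPos e X L F hL hF h1 P hP).2 h2)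

theorem isZero_of_isHilbPoly_zero {F : X.Modules} (hL : CohB1.IsAmple L) (hF : Coh.IsCoh F) {d : ℕ}
    (hd : DimLT (CohB1.support F) d) (hP : ShStab.IsHilbPoly k X L F 0) : IsZero F := by
  by_contra hz
  obtain ⟨N, hN⟩ := eval_pos hL hF hz hd hP
  simpa using hN N le_rfl

end GrothLib.Hilb20
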