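import Groth.Agent.Lib.Hilb20.Stable

/-!
# Morphisms between semistable modules
-/

set_option autoImplicit false
set_option linter.style.haveILetI false

universe u

open CategoryTheory CategoryTheory.Limits AlgebraicGeometry Polynomial

noncomputable section

namespace GrothLib.Hilb20

open GrothLib.Snapper (DimLT)
open StabCat (alpha RedLE RedLT RedEq)

variable {X : Scheme.{u}} {k : Type u} [Field k] [X.Over (Spec (CommRingCat.of k))]
  [IsProper (X ↘ Spec (CommRingCat.of k))] {L : X.Modules} {d : ℕ}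

theorem isPure_self_dimLT {E : X.Modules} (hE : Coh.IsCoh E) (hp : ShStab.IsPure X E d) :
    DimLT (CohB1.support E) (d + 1) :=
  isPure_dimLT hp (𝟙 E) hE

theorem exists_isHilbPoly_sub {E F : X.Modules} (hL : CohB1.IsAmple L) (hp : ShStab.IsPure X E d)
    (ι : F ⟶ E) [Mono ι] (hF : Coh.IsCoh F) : ∃ P : ℚ[X], ShStab.IsHilbPoly k X L F P :=
  exists_isHilbPoly hL hF (isPure_dimLT hp ι hF)

theorem exists_isHilbPoly_pure {E : X.Modules} (hL : CohB1.IsAmple L) (hE : Coh.IsCoh E)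
    (hp : ShStab.IsPure X E d) : ∃ P : ℚ[X], ShStab.IsHilbPoly k X L E P :=
  exists_isHilbPoly hL hE (isPure_self_dimLT hE hp)

theorem alpha_pos_self {E : X.Modules} (hL : CohB1.IsAmple L) (hE : Coh.IsCoh E) (h0 : ¬ IsZero E)
    (hp : ShStab.IsPure X E d) {P : ℚ[X]} (hP : ShStab.IsHilbPoly k X L E P) : 0 < alpha d P :=
  alpha_pos_of_pure hL hp (𝟙 E) hE h0 hP

include k in
theorem isCoh_image {F G : X.Modules} (φ : F ⟶ G) (hF : Coh.IsCoh F) (hG : Coh.IsCoh G) :
    Coh.IsCoh (Abelian.image φ) :=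
  haveI := Euler.isNoetherian_of_proper (X := X) k
  QCoh.isCoh_kernel _ hG (QCoh.isCoh_cokernel φ hF hG)

theorem image_not_isZero {F G : X.Modules} {φ : F ⟶ G} (hφ : φ ≠ 0) : ¬ IsZero (Abelian.image φ) := fun h =>
  hφ (by rw [← Abelian.image.fac φ, h.eq_zero_of_tgt (Abelian.factorThruImage φ), Limits.zero_comp])

/-- The image of a map out of a semistable module. -/
theorem redLE_image_src {F G : X.Modules} (hL : CohB1.IsAmple L) (hF : ShStab.IsSemistable k X L F d)
    (hG : Coh.IsCoh G) {φ : F ⟶ G} (hφ : φ ≠ 0) {pF pI : ℚ[X]} (hpF : ShStab.IsHilbPoly k X L F pF)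
    (hpI : ShStab.IsHilbPoly k X L (Abelian.image φ) pI) : RedLE d pF pI := by
  haveI := Euler.isNoetherian_of_proper (X := X) k
  obtain ⟨w, hS⟩ := QCoh.shortExact_kernel_image φ
  have hK := QCoh.isCoh_kernel φ hF.1 hG
  have hI := isCoh_image (k := k) φ hF.1 hG
  obtain ⟨pK, hpK⟩ := exists_isHilbPoly_sub (k := k) hL hF.2.2.1 (kernel.ι φ) hK
  have e : pF = pK + pI := eq_add_of_shortExact hL.1 hS hK hF.1 hI hpK hpF hpI
  by_cases hz : IsZero (kernel φ)
  · have : pK = 0 := isHilbPoly_unique hpK (isHilbPoly_of_isZero hz)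
    rw [e, this, zero_add]
    exact redLE_self d pI
  · have hni : ¬ IsIso (kernel.ι φ) := fun h => hφ (by
      rw [← cancel_epi (kernel.ι φ), kernel.condition, Limits.comp_zero])
    have h := hF.2.2.2 (kernel φ) (kernel.ι φ) inferInstance hK hz hni pK pF hpK hpF
    rw [e] at h ⊢
    exact redLE_add_right.1 h

/-- The image of a non-injective map out of a stable module. -/
theorem redLT_image_src {F G : X.Modules} (hL : CohB1.IsAmple L) (hF : ShStab.IsStable k X L F d)
    (hG : Coh.IsCoh G) {φ : F ⟶ G} (hφ : φ ≠ 0) (hm : ¬ Mono φ) {pF pI : ℚ[X]}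
    (hpF : ShStab.IsHilbPoly k X L F pF)
    (hpI : ShStab.IsHilbPoly k X L (Abelian.image φ) pI) : RedLT d pF pI := by
  haveI := Euler.isNoetherian_of_proper (X := X) k
  obtain ⟨w, hS⟩ := QCoh.shortExact_kernel_image φ
  have hK := QCoh.isCoh_kernel φ hF.1 hG
  have hI := isCoh_image (k := k) φ hF.1 hG
  obtain ⟨pK, hpK⟩ := exists_isHilbPoly_sub (k := k) hL hF.2.2.1 (kernel.ι φ) hK
  have e : pF = pK + pI := eq_add_of_shortExact hL.1 hS hK hF.1 hI hpK hpF hpI
  have hz : ¬ IsZero (kernel φ) := fun hz => hm (Preadditive.mono_of_kernel_zero (hz.eq_zero_of_src _))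
  have hni : ¬ IsIso (kernel.ι φ) := fun h => hφ (by
    rw [← cancel_epi (kernel.ι φ), kernel.condition, Limits.comp_zero])
  have h := hF.2.2.2 (kernel φ) (kernel.ι φ) inferInstance hK hz hni pK pF hpK hpF
  rw [e] at h ⊢
  exact redLT_add_right.1 h

/-- The image of a map into a semistable module. -/
theorem redLE_image_tgt {F G : X.Modules} (hL : CohB1.IsAmple L) (hF : Coh.IsCoh F)
    (hG : ShStab.IsSemistable k X L G d) {φ : F ⟶ G} (hφ : φ ≠ 0) {pI pG : ℚ[X]}
    (hpI : ShStab.IsHilbPoly k X L (Abelian.image φ) pI) (hpG : ShStab.IsHilbPoly k X L G pG) :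
    RedLE d pI pG := by
  by_cases hi : IsIso (Abelian.image.ι φ)
  · rw [isHilbPoly_unique (isHilbPoly_congr (asIso (Abelian.image.ι φ)) hpI) hpG]
    exact redLE_self d pG
  · exact hG.2.2.2 _ (Abelian.image.ι φ) inferInstance (isCoh_image (k := k) φ hF hG.1) (image_not_isZero hφ) hi
      pI pG hpI hpG

theorem isStable_isSemistable {E : X.Modules} (hE : ShStab.IsStable k X L E d) : ShStab.IsSemistable k X L E d :=
  ⟨hE.1, hE.2.1, hE.2.2.1, fun F ι h1 h2 h3 h4 p q hp hq => redLE_of_redLT (hE.2.2.2 F ι h1 h2 h3 h4 p q hp hq)⟩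

/-- The image of a non-surjective map into a stable module. -/
theorem redLT_image_tgt {F G : X.Modules} (hL : CohB1.IsAmple L) (hF : Coh.IsCoh F)
    (hG : ShStab.IsStable k X L G d) {φ : F ⟶ G} (hφ : φ ≠ 0) (he : ¬ Epi φ) {pI pG : ℚ[X]}
    (hpI : ShStab.IsHilbPoly k X L (Abelian.image φ) pI) (hpG : ShStab.IsHilbPoly k X L G pG) :
    RedLT d pI pG := by
  refine hG.2.2.2 _ (Abelian.image.ι φ) inferInstance (isCoh_image (k := k) φ hF hG.1) (image_not_isZero hφ)
    (fun h => he ?_) pI pG hpI hpG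
  rw [← Abelian.image.fac φ]
  exact epi_comp _ _

theorem redLE_of_ne_zero {F G : X.Modules} (hL : CohB1.IsAmple L) (hF : ShStab.IsSemistable k X L F d)
    (hG : ShStab.IsSemistable k X L G d) {φ : F ⟶ G} (hφ : φ ≠ 0) {pF pG : ℚ[X]}
    (hpF : ShStab.IsHilbPoly k X L F pF) (hpG : ShStab.IsHilbPoly k X L G pG) : RedLE d pF pG := by
  have hI := isCoh_image (k := k) φ hF.1 hG.1
  obtain ⟨pI, hpI⟩ := exists_isHilbPoly_sub (k := k) hL hG.2.2.1 (Abelian.image.ι φ) hI
  exact redLE_trans (alpha_pos_self hL hF.1 hF.2.1 hF.2.2.1 hpF).le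
    (alpha_pos_of_pure hL hG.2.2.1 (Abelian.image.ι φ) hI (image_not_isZero hφ) hpI)
    (alpha_pos_self hL hG.1 hG.2.1 hG.2.2.1 hpG).le
    (redLE_image_src hL hF hG.1 hφ hpF hpI) (redLE_image_tgt hL hF.1 hG hφ hpI hpG)

theorem mono_of_stable {F G : X.Modules} (hL : CohB1.IsAmple L) (hF : ShStab.IsStable k X L F d)
    (hG : ShStab.IsSemistable k X L G d) {φ : F ⟶ G} (hφ : φ ≠ 0) {pF pG : ℚ[X]}
    (hpF : ShStab.IsHilbPoly k X L F pF) (hpG : ShStab.IsHilbPoly k X L G pG) (heq : RedEq d pF pG) :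
    Mono φ := by
  by_contra hm
  have hI := isCoh_image (k := k) φ hF.1 hG.1
  obtain ⟨pI, hpI⟩ := exists_isHilbPoly_sub (k := k) hL hG.2.2.1 (Abelian.image.ι φ) hI
  refine not_redLE_of_redLT ?_ (redLE_of_redEq (redEq_symm heq))
  exact redLT_trans_left (alpha_pos_self hL hF.1 hF.2.1 hF.2.2.1 hpF).le
    (alpha_pos_of_pure hL hG.2.2.1 (Abelian.image.ι φ) hI (image_not_isZero hφ) hpI)
    (alpha_pos_self hL hG.1 hG.2.1 hG.2.2.1 hpG)
    (redLT_image_src hL hF hG.1 hφ hm hpF hpI) (redLE_image_tgt hL hF.1 hG hφ hpI hpG)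

theorem epi_of_stable {F G : X.Modules} (hL : CohB1.IsAmple L) (hF : ShStab.IsSemistable k X L F d)
    (hG : ShStab.IsStable k X L G d) {φ : F ⟶ G} (hφ : φ ≠ 0) {pF pG : ℚ[X]}
    (hpF : ShStab.IsHilbPoly k X L F pF) (hpG : ShStab.IsHilbPoly k X L G pG) (heq : RedEq d pF pG) :
    Epi φ := by
  by_contra he
  have hI := isCoh_image (k := k) φ hF.1 hG.1
  obtain ⟨pI, hpI⟩ := exists_isHilbPoly_sub (k := k) hL hG.2.2.1 (Abelian.image.ι φ) hI
  refine not_redLE_of_redLT ?_ (redLE_of_redEq (redEq_symm heq))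
  exact redLT_trans_right (alpha_pos_self hL hF.1 hF.2.1 hF.2.2.1 hpF)
    (alpha_pos_of_pure hL hG.2.2.1 (Abelian.image.ι φ) hI (image_not_isZero hφ) hpI)
    (alpha_pos_self hL hG.1 hG.2.1 hG.2.2.1 hpG).le
    (redLE_image_src hL hF hG.1 hφ hpF hpI) (redLT_image_tgt hL hF.1 hG hφ he hpI hpG)

theorem isIso_of_stable {F G : X.Modules} (hL : CohB1.IsAmple L) (hF : ShStab.IsSemistable k X L F d)
    (hG : ShStab.IsSemistable k X L G d) (hst : ShStab.IsStable k X L F d ∨ ShStab.IsStable k X L G d)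
    {P : ℚ[X]} (hpF : ShStab.IsHilbPoly k X L F P) (hpG : ShStab.IsHilbPoly k X L G P)
    {φ : F ⟶ G} (hφ : φ ≠ 0) : IsIso φ := by
  haveI := Euler.isNoetherian_of_proper (X := X) k
  rcases hst with h | h
  · haveI := mono_of_stable hL h hG hφ hpF hpG rfl
    let S := ShortComplex.mk φ (cokernel.π φ) (cokernel.condition φ)
    have hS : S.ShortExact := ShortComplex.ShortExact.mk'
      (ShortComplex.exact_of_g_is_cokernel S (cokernelIsCokernel φ)) inferInstance inferInstance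
    have hC := QCoh.isCoh_cokernel φ hF.1 hG.1
    have hCd : DimLT (CohB1.support (cokernel φ)) (d + 1) :=
      (isPure_self_dimLT hG.1 hG.2.2.1).mono (QCoh.support_subset_of_epi (cokernel.π φ))
    obtain ⟨pC, hpC⟩ := exists_isHilbPoly (k := k) hL hC hCd
    have e : P = P + pC := eq_add_of_shortExact hL.1 hS hF.1 hG.1 hC hpF hpG hpC
    have hC0 : pC = 0 := left_eq_add.1 e
    haveI : Epi φ := Preadditive.epi_of_cokernel_zero
      ((isZero_of_isHilbPoly_zero hL hC hCd (hC0 ▸ hpC)).eq_zero_of_tgt _)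
    exact isIso_of_mono_of_epi φ
  · haveI := epi_of_stable hL hF h hφ hpF hpG rfl
    let S := ShortComplex.mk (kernel.ι φ) φ (kernel.condition φ)
    have hS : S.ShortExact := ShortComplex.ShortExact.mk'
      (ShortComplex.exact_of_f_is_kernel S (kernelIsKernel φ)) inferInstance inferInstance
    have hK := QCoh.isCoh_kernel φ hF.1 hG.1
    have hKd := isPure_dimLT hF.2.2.1 (kernel.ι φ) hK
    obtain ⟨pK, hpK⟩ := exists_isHilbPoly (k := k) hL hK hKd
    have e : P = pK + P := eq_add_of_shortExact hL.1 hS hK hF.1 hG.1 hpK hpF hpG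
    have hK0 : pK = 0 := right_eq_add.1 e
    haveI : Mono φ := Preadditive.mono_of_kernel_zero
      ((isZero_of_isHilbPoly_zero hL hK hKd (hK0 ▸ hpK)).eq_zero_of_src _)
    exact isIso_of_mono_of_epi φ

end GrothLib.Hilb20

namespace GrothLib.Hilb20

open GrothLib.Snapper (DimLT)
open StabCat (alpha RedLE)

variable {X : Scheme.{u}} {k : Type u} [Field k] [X.Over (Spec (CommRingCat.of k))]
  [IsProper (X ↘ Spec (CommRingCat.of k))] {L : X.Modules} {d : ℕ}

/-- The comparison condition forces purity. -/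
theorem isPure_of_isSS {E : X.Modules} (hL : CohB1.IsAmple L) (hE : Coh.IsCoh E) (h0 : ¬ IsZero E)
    (hdim : topologicalKrullDim (CohB1.support E) = (d : WithBot ℕ∞))
    (h : StabCat.IsSS Coh.IsCoh (ShStab.IsHilbPoly k X L) d E) : ShStab.IsPure X E d := by
  intro F ι hm hF hF0
  have hdE : DimLT (CohB1.support E) (d + 1) := Snapper.dimLT_of_dim_le hdim.le
  have hnE := not_dimLT_of_dim_eq (QCoh.isClosed_support_of_isCoh hE) hdim
  have hdF := hdE.mono (QCoh.support_subset_of_mono ι)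
  by_cases hnF : DimLT (CohB1.support F) d
  · exfalso
    obtain ⟨pF, hpF⟩ := exists_isHilbPoly (k := k) hL hF hnF
    obtain ⟨pE, hpE⟩ := exists_isHilbPoly (k := k) hL hE hdE
    have hni : ¬ IsIso ι := fun hi => hnE (by rwa [← QCoh.support_eq_of_iso (asIso ι)])
    obtain ⟨N, hN⟩ := h F ι hm hF hF0 hni pF pE hpF hpE
    obtain ⟨M, hM⟩ := eval_pos hL hF hF0 hnF hpF
    have h1 := hN _ (le_max_left N M)
    rw [alpha_eq_zero hL hF hnF hpF, zero_smul, Polynomial.eval_zero, Polynomial.eval_smul, smul_eq_mul] at h1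
    exact (mul_pos (alpha_pos hL hE hdE hnE hpE) (hM _ (le_max_right N M))).not_ge h1
  · refine le_antisymm (Snapper.dim_le_of_dimLT (QCoh.isClosed_support_of_isCoh hF) hdF) ?_
    simp only [DimLT, not_forall, not_lt] at hnF
    obtain ⟨l, hl, hle⟩ := hnF
    exact le_trans (by exact_mod_cast hle) (Snapper.length_le_dim _ l hl)

end GrothLib.Hilb20
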