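import Groth.Agent.Lib.Hilb20.Integral
import Groth.Agent.Lib.Snapper.Intersection
import Groth.Agent.Lib.Ample.RelAmple

/-!
# Positivity of the top coefficient of Hilbert polynomials
-/

set_option autoImplicit false
set_option linter.style.haveILetI false

universe u

open CategoryTheory CategoryTheory.Limits AlgebraicGeometry Polynomial TopologicalSpace

noncomputable section

namespace GrothLib.Hilb20

open GrothLib.Snapper (DimLT IsTop ptMod mult)

theorem twist_structure_eq {V : Scheme.{u}} (L : V.Modules) (m : ℕ) :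
    Snapper.invPows 1 (fun _ => L) (fun _ => m) = ShStab.twist V L (Coh.structureModule V) m := rfl

theorem dimLT_univ_of_range {X Z : Scheme.{u}} (i : Z ⟶ X) [IsClosedImmersion i] {d : ℕ}
    (h : DimLT (Set.range i) d) : DimLT (Set.univ : Set Z) d := fun l _ => by
  have hmono : StrictMono (fun z : Z => i z) := fun a b hab => by
    refine lt_iff_le_not_ge.2 ⟨?_, fun hc => ?_⟩
    · exact (hab.le : b ⤳ a).map i.base.hom.continuous
    · exact not_le_of_gt hab (i.isEmbedding.specializes_iff.1 hc)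
  exact h (l.map _ hmono) fun j => ⟨l j, rfl⟩

theorem dimLT_range_of_univ {X Z : Scheme.{u}} (i : Z ⟶ X) [IsClosedImmersion i] {d : ℕ}
    (h : DimLT (Set.univ : Set Z) d) : DimLT (Set.range i) d := fun l hl => by
  choose g hg using hl
  let l' : LTSeries Z := ⟨l.length, g, fun j => by
    have hab : l j.castSucc < l j.succ := l.step j
    show g j.castSucc < g j.succ
    refine lt_iff_le_not_ge.2 ⟨?_, fun hc => ?_⟩
    · refine i.isEmbedding.specializes_iff.1 ?_
      rw [hg, hg]; exact hab.le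
    · refine not_le_of_gt hab ?_
      rw [← hg, ← hg]
      exact (hc : g j.castSucc ⤳ g j.succ).map i.base.hom.continuous⟩
  exact h l' fun _ => trivial

variable {k : Type u} [Field k]

open Classical in
/-- The `d`-th coefficient of the Hilbert polynomial (zero when there is none). -/
def hpCoeff (k : Type u) [Field k] {X : Scheme.{u}} [X.Over (Spec (CommRingCat.of k))] (L : X.Modules) (d : ℕ)
    (M : X.Modules) : ℚ :=
  if h : ∃ P : ℚ[X], ShStab.IsHilbPoly k X L M P then h.choose.coeff d else 0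

theorem hpCoeff_eq {X : Scheme.{u}} [X.Over (Spec (CommRingCat.of k))] {L M : X.Modules} {d : ℕ} {P : ℚ[X]}
    (hP : ShStab.IsHilbPoly k X L M P) : hpCoeff k L d M = P.coeff d := by
  classical
  rw [hpCoeff, dif_pos ⟨P, hP⟩, isHilbPoly_unique (⟨P, hP⟩ : ∃ P, ShStab.IsHilbPoly k X L M P).choose_spec hP]

theorem exists_isTop_of_not_dimLT {X : Scheme.{u}} {S : Set X} (hS : IsClosed S) {d : ℕ} (h1 : DimLT S (d + 1))
    (h2 : ¬ DimLT S d) : ∃ x ∈ S, IsTop d x := by
  simp only [DimLT, not_forall, not_lt] at h2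
  obtain ⟨l, hl, hd⟩ := h2
  refine ⟨l.last, hl _, Snapper.isTop_of (h1.mono (hS.closure_subset_iff.2 (Set.singleton_subset_iff.2 (hl _))))
    fun h => ?_⟩
  have := h l fun i => specializes_iff_mem_closure.1 (l.monotone (Fin.le_last i) : l.last ⤳ l i)
  omega

/-- `ShStab`-Hilbert coefficients in degree `d` are positive exactly in dimension `d`. -/
def CoeffPos (k : Type u) [Field k] (d : ℕ) : Prop :=
  ∀ (X : Scheme.{u}) [X.Over (Spec (CommRingCat.of k))] [IsProper (X ↘ Spec (CommRingCat.of k))] (L F : X.Modules),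
    CohB1.IsAmple L → Coh.IsCoh F → DimLT (CohB1.support F) (d + 1) → ∀ P : ℚ[X],
      ShStab.IsHilbPoly k X L F P → 0 ≤ P.coeff d ∧ (¬ DimLT (CohB1.support F) d → 0 < P.coeff d)

theorem coeff_ptMod_pos {d : ℕ} (ih : ∀ e, e + 1 = d → CoeffPos k e) {X : Scheme.{u}}
    [X.Over (Spec (CommRingCat.of k))] [IsProper (X ↘ Spec (CommRingCat.of k))] {L : X.Modules}
    (hL : CohB1.IsAmple L) {x : X} (hx : IsTop d x) {P : ℚ[X]} (hP : ShStab.IsHilbPoly k X L (ptMod x) P) :
    0 < P.coeff d := by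
  let I := Scheme.IdealSheafData.vanishingIdeal (⟨closure ({x} : Set X), isClosed_closure⟩ : Closeds X)
  letI : I.subscheme.Over (Spec (CommRingCat.of k)) := ⟨I.subschemeι ≫ X ↘ Spec (CommRingCat.of k)⟩
  haveI : IsProper (I.subscheme ↘ Spec (CommRingCat.of k)) :=
    inferInstanceAs (IsProper (I.subschemeι ≫ X ↘ Spec (CommRingCat.of k)))
  haveI : IsIntegral I.subscheme := Snapper.isIntegral_pt x
  let L' := (Scheme.Modules.pullback I.subschemeι).obj L
  have hL' : CohB1.IsAmple L' := Ample.isAmple_pullback_of_isAffineHom I.subschemeι hL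
  have hP' : ShStab.IsHilbPoly k I.subscheme L' (Coh.structureModule I.subscheme) P := fun m => by
    rw [← hP m, euler_twist k L (ptMod x) m, Snapper.phi_ptMod k (fun _ => hL.1) x, ← twist_structure_eq]
  have hu : DimLT (Set.univ : Set I.subscheme) (d + 1) :=
    dimLT_univ_of_range I.subschemeι (by rw [Snapper.range_pt x]; exact hx.dimLT)
  have hnu : ¬ DimLT (Set.univ : Set I.subscheme) d := fun h => by
    obtain ⟨l, hl, hle⟩ := hx.exists_series
    have := dimLT_range_of_univ I.subschemeι h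
    rw [Snapper.range_pt x] at this
    have := this l hl
    omega
  cases d with
  | zero => exact coeff_zero_pos k hu hP'
  | succ e =>
    obtain ⟨Q, hQ, hQ1, hQ2, hQP⟩ := exists_section_sequence k hL' hu hnu
    obtain ⟨j, hj, hQp⟩ := hQP P hP'
    have h := (ih e rfl I.subscheme L' Q hL' hQ hQ1 _ hQp).2 hQ2
    have hOc : Coh.IsCoh (Coh.structureModule I.subscheme) := Euler.isCoh_of_isInvertible Euler.isInvertible_structure
    rw [coeff_comp_sub (degree_lt_of_dimLT hL'.1 hOc (hu.mono (Set.subset_univ _)) hP')] at h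
    exact pos_of_mul_pos_right h (by positivity)

theorem coeffPos : ∀ d : ℕ, CoeffPos k d := by
  intro d
  induction d using Nat.strong_induction_on with
  | _ d ih =>
  intro X _ _ L F hL hF hd P hP
  have := Euler.isNoetherian_of_proper (X := X) k
  have hpt : ∀ x : X, IsTop d x → 0 < hpCoeff k L d (ptMod x) := fun x hx => by
    obtain ⟨Q, hQ, -⟩ := exists_isHilbPoly_of_dimLT (k := k) hL.1 (Snapper.isCoh_ptMod x)
      (hx.dimLT.mono (Snapper.support_ptMod x))
    rw [hpCoeff_eq hQ]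
    exact coeff_ptMod_pos (fun e he => ih e (by omega)) hL hx hQ
  obtain ⟨hlen, hdec⟩ := Snapper.top_decomposition (hpCoeff k L d)
    (fun A B ⟨e⟩ => by
      by_cases h : ∃ Q : ℚ[X], ShStab.IsHilbPoly k X L A Q
      · obtain ⟨Q, hQ⟩ := h
        rw [hpCoeff_eq hQ, hpCoeff_eq (isHilbPoly_congr e hQ)]
      · rw [hpCoeff, hpCoeff, dif_neg h, dif_neg fun ⟨Q, hQ⟩ => h ⟨Q, isHilbPoly_congr e.symm hQ⟩])
    (QCoh.isClosed_support_of_isCoh hF) hd
    (fun T hT a b c hs => by
      haveI := hT.mono_f; haveI := hT.epi_g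
      obtain ⟨Q₁, h₁, -⟩ := exists_isHilbPoly_of_dimLT (k := k) hL.1 a
        (hd.mono ((QCoh.support_subset_of_mono T.f).trans hs))
      obtain ⟨Q₃, h₃, -⟩ := exists_isHilbPoly_of_dimLT (k := k) hL.1 c
        (hd.mono ((QCoh.support_subset_of_epi T.g).trans hs))
      rw [hpCoeff_eq h₁, hpCoeff_eq h₃, hpCoeff_eq (isHilbPoly_add hL.1 hT a b c h₁ h₃), coeff_add])
    (fun M hM _ hMd => by
      obtain ⟨Q, hQ, -⟩ := exists_isHilbPoly_of_dimLT (k := k) hL.1 hM hMd
      rw [hpCoeff_eq hQ, coeff_eq_zero_of_dimLT hL.1 hM hMd hQ le_rfl])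
    F hF subset_rfl
  rw [hpCoeff_eq hP] at hdec
  have hnn : ∀ x : X, 0 ≤ Snapper.topTerm (hpCoeff k L d) d F x := fun x => by
    by_cases hx : IsTop d x
    · rw [Snapper.topTerm_of _ hx]; exact nsmul_nonneg (hpt x hx).le _
    · simp [Snapper.topTerm, hx]
  refine ⟨hdec ▸ finsum_nonneg hnn, fun hnd => hdec ▸ ?_⟩
  obtain ⟨x, hxS, hx⟩ := exists_isTop_of_not_dimLT (QCoh.isClosed_support_of_isCoh hF) hd hnd
  refine finsum_pos hnn ⟨x, ?_⟩
    (Snapper.finite_support_topTerm _ (QCoh.isClosed_support_of_isCoh hF) hd subset_rfl)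
  rw [Snapper.topTerm_of _ hx]
  refine nsmul_pos (hpt x hx) ?_
  rw [mult]
  intro h0
  rcases ENat.toNat_eq_zero.1 h0 with h0 | h0
  · exact hxS (Module.length_eq_zero_iff.1 h0)
  · exact hlen x hx h0

end GrothLib.Hilb20
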