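import Groth.Agent.Lib.Hilb20.GiesekerRun
import Groth.Agent.Lib.Slope20.Saturated

/-!
# Semistability through saturated submodules
-/

set_option autoImplicit false
set_option linter.style.haveILetI false

universe u

open CategoryTheory CategoryTheory.Limits AlgebraicGeometry Polynomial

noncomputable section

namespace GrothLib.Hilb20

open GrothLib.Snapper (DimLT)
open StabCat (alpha RedLE RedLT)
open GrothLib.Slope20

variable {X : Scheme.{u}} (k : Type u) [Field k] [X.Over (Spec (CommRingCat.of k))]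
  [IsProper (X ↘ Spec (CommRingCat.of k))] {L E E' : X.Modules} {d : ℕ}

omit [IsProper (X ↘ Spec (CommRingCat.of k))] in
theorem isStable_of_iso (e : E ≅ E') (h : ShStab.IsStable k X L E d) : ShStab.IsStable k X L E' d := by
  refine ⟨QCoh.isCoh_of_iso e h.1, fun hz => h.2.1 (hz.of_iso e), isPure_of_iso e h.2.2.1,
    fun F ι hι hF hF0 hni pF pE hpF hpE => ?_⟩
  haveI := hι
  exact h.2.2.2 F (ι ≫ e.inv) inferInstance hF hF0 (fun hi => hni (haveI := hi; IsIso.of_isIso_comp_right ι e.inv))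
    pF pE hpF (isHilbPoly_congr e.symm hpE)

omit [IsProper (X ↘ Spec (CommRingCat.of k))] in
theorem not_isZero_cokernel {F : X.Modules} (ι : F ⟶ E) [Mono ι] (h : ¬ IsIso ι) : ¬ IsZero (cokernel ι) := fun hz =>
  h (haveI : Epi ι := Preadditive.epi_of_cokernel_zero (hz.eq_zero_of_tgt _); isIso_of_mono_of_epi ι)

/-- The quotient by a subobject. -/
def quotTop (S : Subobject E) : cokernel (Subobject.ofLE S ⊤ le_top) ≅ cokernel S.arrow :=
  haveI : IsIso (⊤ : Subobject E).arrow := inferInstance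
  cokernel.mapIso _ S.arrow (Iso.refl _) (asIso (⊤ : Subobject E).arrow) (by simp [Subobject.ofLE_arrow])

variable [IsLocallyNoetherian X]

theorem bot_lt_top (hE : Coh.IsCoh E) (h0 : ¬ IsZero E) :
    letI := cohSubLattice hE
    botC E < topC hE := by
  letI := cohSubLattice hE
  refine lt_of_le_of_ne (botC_le (topC hE)) fun he => h0 ?_
  have he' : (⊥ : Subobject E) = ⊤ := congrArg Subtype.val he
  have hz : IsZero ((⊤ : Subobject E) : X.Modules) := by
    rw [← he']; exact (isZero_zero _).of_iso Subobject.botCoeIsoZero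
  exact hz.of_iso (asIso (⊤ : Subobject E).arrow).symm

theorem saturated_facts (hL : CohB1.IsAmple L) (hE : Coh.IsCoh E) (hd : DimLT (CohB1.support E) (d + 1))
    (c : CohSub E) (h1 : letI := cohSubLattice hE; botC E < c) (h2 : letI := cohSubLattice hE; c < topC hE)
    (h3 : letI := cohSubLattice hE; (gData k hL hE hd).Pure c (topC hE)) :
    ¬ IsZero (c.1 : X.Modules) ∧ ¬ IsIso c.1.arrow ∧ ShStab.IsPure X (cokernel c.1.arrow) d := by
  letI := cohSubLattice hE
  refine ⟨fun hz => h1.ne (Subtype.ext (eq_of_hp_eq k hL bot_le (isCoh_bot E) c.2 ?_)), fun hi => ?_, ?_⟩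
  · show hp k L ((⊥ : Subobject E) : X.Modules) = _
    rw [hp_bot' k hL E, hp_eq k hL c.2 (isHilbPoly_of_isZero hz)]
  · haveI := hi
    exact h2.ne (Subtype.ext (Subobject.eq_top_of_isIso_arrow c.1))
  · exact isPure_of_iso (quotTop c.1) ((pure_iff k hL hE hd c (topC hE) le_top).1 h3)

theorem isSemistable_of_saturated (hL : CohB1.IsAmple L) (hE : Coh.IsCoh E) (h0 : ¬ IsZero E)
    (hp' : ShStab.IsPure X E d)
    (h : ∀ (F : X.Modules) (ι : F ⟶ E), Mono ι → Coh.IsCoh F → ¬ IsZero F → ¬ IsIso ι →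
      ShStab.IsPure X (cokernel ι) d →
      ∀ (pF pE : ℚ[X]), ShStab.IsHilbPoly k X L F pF → ShStab.IsHilbPoly k X L E pE → RedLE d pF pE) :
    ShStab.IsSemistable k X L E d := by
  haveI := Euler.isNoetherian_of_proper (X := X) k
  letI := cohSubLattice hE
  haveI : WellFoundedGT (CohSub E) := isNoetherian_cohSub hE
  have hd := isPure_self_dimLT hE hp'
  refine isSemistable_of_iso k (quotBotTop E) ((ss_iff k hL hE hd (botC E) (topC hE) bot_le).1
    (SlopeData.le_of_saturated _ (bot_lt_top hE h0) (pure_top k hL hE hd hp') fun c h1 h2 h3 => ?_))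
  obtain ⟨g1, g2, g3⟩ := saturated_facts k hL hE hd c h1 h2 h3
  rw [le_iff_redLE]
  show RedLE d (hp k L (c.1 : X.Modules) - hp k L ((⊥ : Subobject E) : X.Modules))
    (hp k L ((⊤ : Subobject E) : X.Modules) - hp k L ((⊥ : Subobject E) : X.Modules))
  rw [hp_bot' k hL E, hp_top k hL hE, sub_zero, sub_zero]
  exact h _ c.1.arrow inferInstance c.2 g1 g2 g3 _ _ (isHilbPoly_hp k hL c.2) (isHilbPoly_hp k hL hE)

theorem isStable_of_saturated (hL : CohB1.IsAmple L) (hE : Coh.IsCoh E) (h0 : ¬ IsZero E)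
    (hp' : ShStab.IsPure X E d)
    (h : ∀ (F : X.Modules) (ι : F ⟶ E), Mono ι → Coh.IsCoh F → ¬ IsZero F → ¬ IsIso ι →
      ShStab.IsPure X (cokernel ι) d →
      ∀ (pF pE : ℚ[X]), ShStab.IsHilbPoly k X L F pF → ShStab.IsHilbPoly k X L E pE → RedLT d pF pE) :
    ShStab.IsStable k X L E d := by
  haveI := Euler.isNoetherian_of_proper (X := X) k
  letI := cohSubLattice hE
  haveI : WellFoundedGT (CohSub E) := isNoetherian_cohSub hE
  have hd := isPure_self_dimLT hE hp'
  refine isStable_of_iso k (quotBotTop E) ((st_iff k hL hE hd (botC E) (topC hE) bot_le).1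
    (SlopeData.st_of_saturated _ (strict_mono k hL hE hd) (bot_lt_top hE h0) (pure_top k hL hE hd hp')
      fun c h1 h2 h3 => ?_))
  obtain ⟨g1, g2, g3⟩ := saturated_facts k hL hE hd c h1 h2 h3
  rw [lt_iff_redLT]
  show RedLT d (hp k L (c.1 : X.Modules) - hp k L ((⊥ : Subobject E) : X.Modules))
    (hp k L ((⊤ : Subobject E) : X.Modules) - hp k L ((⊥ : Subobject E) : X.Modules))
  rw [hp_bot' k hL E, hp_top k hL hE, sub_zero, sub_zero]
  exact h _ c.1.arrow inferInstance c.2 g1 g2 g3 _ _ (isHilbPoly_hp k hL c.2) (isHilbPoly_hp k hL hE)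

omit [IsLocallyNoetherian X] in
/-- Quotients of positive multiplicity of a pure module, in terms of the kernel. -/
theorem exists_kernel_poly (hL : CohB1.IsAmple L) (hE : Coh.IsCoh E) (hp' : ShStab.IsPure X E d)
    {G : X.Modules} (π : E ⟶ G) [Epi π] (hG : Coh.IsCoh G) (hni : ¬ IsIso π) {pE pG : ℚ[X]}
    (hpE : ShStab.IsHilbPoly k X L E pE) (hpG : ShStab.IsHilbPoly k X L G pG) :
    Coh.IsCoh (kernel π) ∧ ¬ IsZero (kernel π) ∧
      ∃ pK, ShStab.IsHilbPoly k X L (kernel π) pK ∧ pE = pK + pG := by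
  haveI := Euler.isNoetherian_of_proper (X := X) k
  have hK := QCoh.isCoh_kernel π hE hG
  refine ⟨hK, fun hz => hni ?_, ?_⟩
  · haveI : Mono π := Preadditive.mono_of_kernel_zero (hz.eq_zero_of_src _)
    exact isIso_of_mono_of_epi π
  obtain ⟨pK, hpK⟩ := exists_isHilbPoly_sub (k := k) hL hp' (kernel.ι π) hK
  let S := ShortComplex.mk (kernel.ι π) π (kernel.condition π)
  have hS : S.ShortExact := ShortComplex.ShortExact.mk'
    (ShortComplex.exact_of_f_is_kernel S (kernelIsKernel π)) inferInstance inferInstance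
  exact ⟨pK, hpK, eq_add_of_shortExact hL.1 hS hK hE hG hpK hpE hpG⟩

omit [IsLocallyNoetherian X] in
/-- Proper quotients of positive multiplicity do not kill everything. -/
theorem kernel_ι_not_isIso (hL : CohB1.IsAmple L) {G : X.Modules} (π : E ⟶ G) [Epi π] {pG : ℚ[X]}
    (hpG : ShStab.IsHilbPoly k X L G pG) (hpos : 0 < alpha d pG) : ¬ IsIso (kernel.ι π) := by
  intro hi
  haveI := hi
  have h0 : π = 0 := by rw [← cancel_epi (kernel.ι π), kernel.condition, Limits.comp_zero]
  have hz : IsZero G := (IsZero.iff_id_eq_zero G).2 (by rw [← cancel_epi π, Category.comp_id, h0, Limits.zero_comp])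
  rw [isHilbPoly_unique hpG (isHilbPoly_of_isZero hz)] at hpos
  simp [alpha] at hpos

end GrothLib.Hilb20
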