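import Groth.Agent.Lib.Hilb20.EvPoly
import Groth.Agent.Lib.Slope20.SubIso
import Groth.Agent.Lib.Slope20.JHUnique
import Groth.Agent.Lib.QCoh.Filtration
import Groth.Agent.Lib.QCoh.Coherent

/-!
# The lattice of coherent submodules and its slope data
-/

set_option autoImplicit false
set_option linter.style.haveILetI false

universe u

open CategoryTheory CategoryTheory.Limits AlgebraicGeometry Polynomial

noncomputable section

namespace GrothLib.Hilb20

open GrothLib.Snapper (DimLT)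
open StabCat (alpha RedLE RedLT RedEq)

variable {X : Scheme.{u}}

/-- Coherent submodules. -/
abbrev CohSub (E : X.Modules) : Type (u + 1) := {S : Subobject E // Coh.IsCoh (S : X.Modules)}

theorem isCoh_sup [IsLocallyNoetherian X] {E : X.Modules} (hE : Coh.IsCoh E) {S T : Subobject E}
    (hS : Coh.IsCoh (S : X.Modules)) (hT : Coh.IsCoh (T : X.Modules)) :
    Coh.IsCoh ((S ⊔ T : Subobject E) : X.Modules) := by
  rw [← Slope20.sup_eq_kernelSubobject S T]
  refine QCoh.isCoh_of_iso (kernelSubobjectIso _).symm (QCoh.isCoh_kernel _ hE ?_)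
  exact QCoh.isCoh_cokernel _ hT (QCoh.isCoh_cokernel _ hS hE)

theorem isCoh_inf [IsLocallyNoetherian X] {E : X.Modules} (hE : Coh.IsCoh E) {S T : Subobject E}
    (hS : Coh.IsCoh (S : X.Modules)) (hT : Coh.IsCoh (T : X.Modules)) :
    Coh.IsCoh ((S ⊓ T : Subobject E) : X.Modules) := by
  rw [← Slope20.inf_eq_mk_kernel S T]
  exact QCoh.isCoh_of_iso (Subobject.underlyingIso _).symm
    (QCoh.isCoh_kernel _ hT (QCoh.isCoh_cokernel _ hS hE))

/-- The lattice structure. -/
abbrev cohSubLattice [IsLocallyNoetherian X] {E : X.Modules} (hE : Coh.IsCoh E) : Lattice (CohSub E) :=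
  Subtype.lattice (fun {_ _} hS hT => isCoh_sup hE hS hT) (fun {_ _} hS hT => isCoh_inf hE hS hT)

theorem isModular_cohSub [IsLocallyNoetherian X] {E : X.Modules} (hE : Coh.IsCoh E) :
    @IsModularLattice (CohSub E) (cohSubLattice hE) :=
  letI := cohSubLattice hE
  ⟨fun {x} y {z} hxz => show (x.1 ⊔ y.1) ⊓ z.1 ≤ x.1 ⊔ y.1 ⊓ z.1 from sup_inf_le_assoc_of_le y.1 hxz⟩

theorem isCoh_top {E : X.Modules} (hE : Coh.IsCoh E) : Coh.IsCoh ((⊤ : Subobject E) : X.Modules) :=
  QCoh.isCoh_of_iso (asIso (⊤ : Subobject E).arrow).symm hE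

theorem isCoh_bot (E : X.Modules) : Coh.IsCoh ((⊥ : Subobject E) : X.Modules) :=
  Euler.isCoh_of_isZero ((isZero_zero _).of_iso Subobject.botCoeIsoZero)

theorem isNoetherian_cohSub [IsNoetherian X] {E : X.Modules} (hE : Coh.IsCoh E) : WellFoundedGT (CohSub E) := by
  classical
  obtain ⟨U, hUA, hUf, hUcov⟩ : ∃ U : Set X.Opens, (∀ V ∈ U, IsAffineOpen V) ∧ U.Finite ∧ ∀ x : X, ∃ V ∈ U, x ∈ V := by
    let 𝒰 := X.affineCover
    obtain ⟨t, ht⟩ := isCompact_univ.elim_finite_subcover (fun i => ((𝒰.f i).opensRange : Set X))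
      (fun i => (𝒰.f i).opensRange.2) fun x _ => Set.mem_iUnion.2 (𝒰.exists_eq x |>.imp fun i h => h)
    refine ⟨(fun i => (𝒰.f i).opensRange) '' t, ?_, t.finite_toSet.image _, fun x => ?_⟩
    · rintro _ ⟨i, -, rfl⟩; exact isAffineOpen_opensRange (𝒰.f i)
    · obtain ⟨i, hi, hx⟩ := Set.mem_iUnion₂.1 (ht (Set.mem_univ x))
      exact ⟨_, ⟨i, hi, rfl⟩, hx⟩
  haveI := hE.1
  haveI : ∀ V : U, Module.Finite Γ(X, V.1) Γ(E, V.1) := fun V =>
    QCoh.moduleFinite_of_isFiniteType E hE.2 (hUA V.1 V.2)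
  haveI : ∀ V : U, IsNoetherianRing Γ(X, V.1) := fun V =>
    IsLocallyNoetherian.component_noetherian ⟨V.1, hUA V.1 V.2⟩
  let N : ∀ (_ : CohSub E) (V : U), Submodule Γ(X, V.1) Γ(E, V.1) := fun S V =>
    LinearMap.range (QCoh.appLinear S.1.arrow V.1)
  have hN : ∀ S T : CohSub E, S ≤ T → ∀ V, N S V ≤ N T V := fun S T h V => by
    rintro _ ⟨a, rfl⟩
    refine ⟨(Subobject.ofLE S.1 T.1 h).app V.1 a, ?_⟩
    show T.1.arrow.app V.1 ((Subobject.ofLE S.1 T.1 h).app V.1 a) = S.1.arrow.app V.1 a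
    rw [← ConcreteCategory.comp_apply, ← Scheme.Modules.Hom.comp_app, Subobject.ofLE_arrow]
  have hinj : ∀ S T : CohSub E, S ≤ T → (∀ V, N S V = N T V) → S = T := fun S T h he => by
    haveI := S.2.1
    haveI := T.2.1
    haveI : IsIso (Subobject.ofLE S.1 T.1 h) := by
      refine QCoh.isIso_of_bijective_on_cover _ (fun V : U => V.1) ?_ (fun V => hUA V.1 V.2) fun V => ⟨?_, fun t => ?_⟩
      · exact eq_top_iff.mpr fun x _ => TopologicalSpace.Opens.mem_iSup.mpr
          (let ⟨V, hV, hx⟩ := hUcov x; ⟨⟨V, hV⟩, hx⟩)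
      · have hS : (ShortComplex.mk S.1.arrow (cokernel.π S.1.arrow) (cokernel.condition _)).ShortExact :=
          { exact := ShortComplex.exact_cokernel _ }
        intro a b hab
        refine QCoh.app_injective hS V.1 ?_
        show S.1.arrow.app V.1 a = S.1.arrow.app V.1 b
        rw [← Subobject.ofLE_arrow h, Scheme.Modules.Hom.comp_app]
        exact congrArg (T.1.arrow.app V.1) hab
      · have hT : (ShortComplex.mk T.1.arrow (cokernel.π T.1.arrow) (cokernel.condition _)).ShortExact :=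
          { exact := ShortComplex.exact_cokernel _ }
        obtain ⟨a, ha⟩ : T.1.arrow.app V.1 t ∈ N S V := he V ▸ ⟨t, rfl⟩
        refine ⟨a, QCoh.app_injective hT V.1 ?_⟩
        show T.1.arrow.app V.1 _ = _
        rw [← ConcreteCategory.comp_apply, ← Scheme.Modules.Hom.comp_app, Subobject.ofLE_arrow]
        exact ha
    exact Subtype.ext (le_antisymm h (Subobject.le_of_comm (inv (Subobject.ofLE S.1 T.1 h))
      (by rw [IsIso.inv_comp_eq, Subobject.ofLE_arrow])))
  rw [wellFoundedGT_iff_monotone_chain_condition]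
  intro f
  haveI := hUf.to_subtype
  choose n hn using fun V : U => wellFoundedGT_iff_monotone_chain_condition.1
    (inferInstance : WellFoundedGT (Submodule Γ(X, V.1) Γ(E, V.1)))
    ⟨fun i => N (f i) V, fun i j hij => hN _ _ (f.monotone hij) V⟩
  obtain ⟨M, hM⟩ := (Set.finite_range n).bddAbove
  refine ⟨M, fun m hm => hinj _ _ (f.monotone hm) fun V => ?_⟩
  exact (hn V M (hM ⟨V, rfl⟩)).symm.trans (hn V m ((hM ⟨V, rfl⟩).trans hm))

variable (k : Type u) [Field k] [X.Over (Spec (CommRingCat.of k))]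

open Classical in
/-- The Hilbert polynomial, zero when there is none. -/
def hp (L M : X.Modules) : ℚ[X] :=
  if h : ∃ P : ℚ[X], ShStab.IsHilbPoly k X L M P then h.choose else 0

variable [IsProper (X ↘ Spec (CommRingCat.of k))] {L : X.Modules}

theorem isHilbPoly_hp (hL : CohB1.IsAmple L) {M : X.Modules} (hM : Coh.IsCoh M) :
    ShStab.IsHilbPoly k X L M (hp k L M) := by
  obtain ⟨n, hn⟩ := exists_dimLT (k := k) (CohB1.support M)
  have h := exists_isHilbPoly (k := k) hL hM hn
  classical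
  rw [hp, dif_pos h]
  exact h.choose_spec

theorem hp_eq (hL : CohB1.IsAmple L) {M : X.Modules} (hM : Coh.IsCoh M) {P : ℚ[X]}
    (hP : ShStab.IsHilbPoly k X L M P) : hp k L M = P :=
  isHilbPoly_unique (isHilbPoly_hp k hL hM) hP

/-- The Hilbert polynomial of a subquotient. -/
theorem isHilbPoly_cokernel_ofLE (hL : CohB1.IsAmple L) {E : X.Modules} {S T : Subobject E} (h : S ≤ T)
    (hS : Coh.IsCoh (S : X.Modules)) (hT : Coh.IsCoh (T : X.Modules)) :
    ShStab.IsHilbPoly k X L (cokernel (Subobject.ofLE S T h)) (hp k L (T : X.Modules) - hp k L (S : X.Modules)) := by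
  haveI := Slope20.mono_ofLE h
  obtain ⟨-, -, pC, hpC, e⟩ := exists_quotient_poly hL hS hT (Subobject.ofLE S T h) (isHilbPoly_hp k hL hS)
    (isHilbPoly_hp k hL hT)
  rwa [e, add_sub_cancel_left]

theorem dimLT_subobject {E : X.Modules} {d : ℕ} (hd : DimLT (CohB1.support E) d) (S : Subobject E) :
    DimLT (CohB1.support (S : X.Modules)) d :=
  hd.mono (QCoh.support_subset_of_mono S.arrow)

theorem hp_valuation (hL : CohB1.IsAmple L) {E : X.Modules} (hE : Coh.IsCoh E) (S T : CohSub E) :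
    hp k L ((S.1 ⊔ T.1 : Subobject E) : X.Modules) + hp k L ((S.1 ⊓ T.1 : Subobject E) : X.Modules) =
      hp k L (S.1 : X.Modules) + hp k L (T.1 : X.Modules) := by
  haveI := Euler.isNoetherian_of_proper (X := X) k
  obtain ⟨e⟩ := Slope20.nonempty_second_iso S.1 T.1
  have h1 := isHilbPoly_cokernel_ofLE k hL (le_sup_left : S.1 ≤ S.1 ⊔ T.1) S.2 (isCoh_sup hE S.2 T.2)
  have h2 := isHilbPoly_cokernel_ofLE k hL (inf_le_right : S.1 ⊓ T.1 ≤ T.1) (isCoh_inf hE S.2 T.2) T.2
  have h3 := isHilbPoly_unique (isHilbPoly_congr e h1) h2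
  linear_combination h3

variable (d : ℕ)

/-- Multiplicity as an integer. -/
def mult' (L M : X.Modules) : ℤ := ⌊alpha d (hp k L M)⌋

theorem cast_mult' (hL : CohB1.IsAmple L) {M : X.Modules} (hM : Coh.IsCoh M)
    (hd : DimLT (CohB1.support M) (d + 1)) : (mult' k d L M : ℚ) = alpha d (hp k L M) := by
  obtain ⟨n, hn⟩ := exists_int_alpha (isHilbPoly_hp k hL hM) (degree_lt_of_dimLT hL.1 hM hd (isHilbPoly_hp k hL hM))
  rw [mult', ← hn, Int.floor_intCast]

theorem alpha_sub (P Q : ℚ[X]) : alpha d (P - Q) = alpha d P - alpha d Q := by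
  simp [alpha, mul_sub]

/-- Slope data on coherent submodules, for an additive degree function. -/
def slopeData (hL : CohB1.IsAmple L) {E : X.Modules} (hE : Coh.IsCoh E) (hd : DimLT (CohB1.support E) (d + 1))
    [IsLocallyNoetherian X] {Γ : Type} [AddCommGroup Γ] [LinearOrder Γ] [IsOrderedAddMonoid Γ]
    (ν : ℚ[X] →+ Γ)
    (hν : ∀ M : X.Modules, Coh.IsCoh M → DimLT (CohB1.support M) d →
      ∀ P : ℚ[X], ShStab.IsHilbPoly k X L M P → 0 ≤ ν P) :
    letI := cohSubLattice hE
    Slope20.SlopeData (CohSub E) Γ :=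
  letI := cohSubLattice hE
  { R := fun S => mult' k d L (S.1 : X.Modules)
    V := fun S => ν (hp k L (S.1 : X.Modules))
    R_val := fun S T => by
      have h : ∀ U : CohSub E, (mult' k d L (U.1 : X.Modules) : ℚ) = alpha d (hp k L (U.1 : X.Modules)) :=
        fun U => cast_mult' k d hL U.2 (dimLT_subobject hd U.1)
      have h' := congrArg (alpha d) (hp_valuation k hL hE S T)
      rw [alpha_add, alpha_add] at h'
      rw [← Int.cast_inj (α := ℚ), Int.cast_add, Int.cast_add, h, h, h, h]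
      exact h'
    V_val := fun S T => by
      rw [← map_add, ← map_add]
      exact congrArg ν (hp_valuation k hL hE S T)
    R_mono := fun S T h => by
      have e := cast_mult' k d hL S.2 (dimLT_subobject hd S.1)
      have e' := cast_mult' k d hL T.2 (dimLT_subobject hd T.1)
      haveI := Slope20.mono_ofLE (show S.1 ≤ T.1 from h)
      have := alpha_le_of_mono hL S.2 T.2 (dimLT_subobject hd T.1) (Subobject.ofLE S.1 T.1 h)
        (isHilbPoly_hp k hL S.2) (isHilbPoly_hp k hL T.2)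
      rw [← e, ← e'] at this
      exact_mod_cast this
    V_mono := fun S T h he => by
      haveI := Slope20.mono_ofLE (show S.1 ≤ T.1 from h)
      obtain ⟨hC, hsub, pC, hpC, e⟩ := exists_quotient_poly hL S.2 T.2 (Subobject.ofLE S.1 T.1 h)
        (isHilbPoly_hp k hL S.2) (isHilbPoly_hp k hL T.2)
      have h0 : alpha d pC = 0 := by
        have e1 := cast_mult' k d hL S.2 (dimLT_subobject hd S.1)
        have e2 := cast_mult' k d hL T.2 (dimLT_subobject hd T.1)
        rw [e, alpha_add, ← e1, show mult' k d L (S.1 : X.Modules) = mult' k d L (T.1 : X.Modules) from he] at e2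
        linarith
      rw [e, map_add]
      refine le_add_of_nonneg_right (hν _ hC ?_ pC hpC)
      exact dimLT_of_alpha_eq_zero hL hC ((dimLT_subobject hd T.1).mono hsub) hpC h0 }

end GrothLib.Hilb20
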