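import Groth.Agent.Lib.Hilb20.Poly
import Groth.Agent.Lib.Euler.Section
import Groth.Agent.Lib.Euler.Slope
import Groth.Agent.Lib.Ample.Criterion
import Groth.Agent.Lib.Ref1.Powers

/-!
# The section sequence of an ample power on an integral scheme
-/

set_option autoImplicit false
set_option linter.style.haveILetI false

universe u

open CategoryTheory CategoryTheory.Limits AlgebraicGeometry Polynomial

noncomputable section

namespace GrothLib.Hilb20

open GrothLib.Snapper (DimLT)
open GrothLib.Euler (tF)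

variable {V : Scheme.{u}}

theorem tF_obj_eq (M N : V.Modules) : (tF N).obj M = CohB1.tensorMod M N := rfl

theorem twist_eq (L M : V.Modules) (m : ℕ) : ShStab.twist V L M m = (tF (CohB1.tensorPow L m)).obj M := rfl

theorem nonempty_unit_tF (N : V.Modules) : Nonempty ((tF N).obj (Coh.structureModule V) ≅ N) :=
  ⟨OX.tensorUnitLeftIso N⟩

theorem nonempty_tF_congr {M M' N N' : V.Modules} (e : M ≅ M') (e' : N ≅ N') :
    Nonempty ((tF N).obj M ≅ CohB1.tensorMod M' N') :=
  ⟨(tF N).mapIso e ≪≫ ((DCoh.tensorBi (X := V)).obj M').mapIso e'⟩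

theorem app_bijective_of_le_genLocus {L : V.Modules} (s : Coh.structureModule V ⟶ L) {U W : V.Opens}
    (hU : IsIso ((Scheme.Modules.restrictFunctor U.ι).map s)) (hW : W ≤ U) : Function.Bijective (s.app W) := by
  have h := Scheme.Modules.Hom.isIso_iff_isIso_app.mp hU (U.ι ⁻¹ᵁ W)
  rw [ConcreteCategory.isIso_iff_bijective] at h
  have e : U.ι ''ᵁ (U.ι ⁻¹ᵁ W) = W := by
    rw [Scheme.Hom.image_preimage_eq_opensRange_inf, Scheme.Opens.opensRange_ι, inf_eq_right.2 hW]
  have h' : Function.Bijective (s.app (U.ι ''ᵁ (U.ι ⁻¹ᵁ W))) := h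
  rwa [e] at h'

theorem mono_of_mem_genLocus [IsIntegral V] {L : V.Modules} (s : Coh.structureModule V ⟶ L)
    (hη : genericPoint V ∈ CohB1.genLocus L s) : Mono s := by
  obtain ⟨U, hU, hηU⟩ := TopologicalSpace.Opens.mem_sSup.1 hη
  refine QCoh.mono_of_app_injective s fun T => (injective_iff_map_eq_zero _).2 fun t ht => ?_
  rcases isEmpty_or_nonempty (T : Scheme.{u}) with hT | hT
  · exact QCoh.section_eq_zero_of_germ _ t fun x hx => (hT.false ⟨x, hx⟩).elim
  obtain ⟨⟨x, hx⟩⟩ := hT
  haveI : Nonempty (T ⊓ U : V.Opens) :=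
    ⟨⟨genericPoint V, ((genericPoint_spec V).specializes trivial).mem_open T.2 hx, hηU⟩⟩
  have h1 : s.app (T ⊓ U) ((Coh.structureModule V).presheaf.map (homOfLE (inf_le_left : T ⊓ U ≤ T)).op t) = 0 := by
    have h := ConcreteCategory.congr_hom (s.mapPresheaf.naturality (homOfLE (inf_le_left : T ⊓ U ≤ T)).op) t
    refine h.trans ?_
    exact (congrArg (L.presheaf.map (homOfLE (inf_le_left : T ⊓ U ≤ T)).op) ht).trans (map_zero _)
  have h2 := (app_bijective_of_le_genLocus s hU inf_le_right).1 (h1.trans (map_zero _).symm)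
  exact map_injective_of_isIntegral V (homOfLE (inf_le_left : T ⊓ U ≤ T)) (h2.trans (map_zero _).symm)

theorem le_genLocus_of_disjoint_support {L : V.Modules} (s : Coh.structureModule V ⟶ L) [Mono s] {U : V.Opens}
    (hU : ∀ x ∈ U, x ∉ CohB1.support (cokernel s)) : U ≤ CohB1.genLocus L s := by
  refine le_sSup (Ref1.isIso_restrict_of_bijective s U fun x hx => ?_)
  rw [Ref1.stalkMapₗ_eq_stalkLin]
  refine ⟨QCoh.stalkLin_injective s x, fun e => ?_⟩
  haveI := QCoh.stalk_subsingleton_of_notMem (hU x hx)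
  let S := ShortComplex.mk s (cokernel.π s) (cokernel.condition s)
  have hS : S.ShortExact := ShortComplex.ShortExact.mk'
    (ShortComplex.exact_of_g_is_cokernel S (cokernelIsCokernel s)) inferInstance inferInstance
  have h := (OX.exact_iff S).1 hS.exact x
  rw [ShortComplex.moduleCat_exact_iff] at h
  exact h e (Subsingleton.elim (α := S.X₃.presheaf.stalk x) _ _)

theorem support_cokernel_subset {L : V.Modules} (s : Coh.structureModule V ⟶ L) :
    CohB1.support (cokernel s) ⊆ ((CohB1.genLocus L s : Set V))ᶜ := by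
  intro x hx hxg
  obtain ⟨U, hU, hxU⟩ := TopologicalSpace.Opens.mem_sSup.1 hxg
  refine QCoh.notMem_support_cokernel_of_surjective s ?_ hx
  exact (GrothLib.Euler.stalkLin_bijective_of_app_bijective s hxU fun T hT =>
    app_bijective_of_le_genLocus s hU hT).2

theorem coeff_comp_sub {P : ℚ[X]} {e : ℕ} (hP : P.degree < ((e + 2 : ℕ) : WithBot ℕ)) (a : ℚ) :
    (P.comp (Polynomial.X + Polynomial.C a) - P).coeff e = (e + 1) * a * P.coeff (e + 1) := by
  have hP' : P = ∑ i ∈ Finset.range (e + 2), Polynomial.C (P.coeff i) * Polynomial.X ^ i := by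
    conv_lhs => rw [P.as_sum_range' (e + 2) (by
      rcases eq_or_ne P 0 with rfl | h0
      · simp
      · exact (natDegree_lt_iff_degree_lt h0).2 hP)]
    exact Finset.sum_congr rfl fun i _ => (C_mul_X_pow_eq_monomial).symm
  have hc : (P.comp (Polynomial.X + Polynomial.C a)).coeff e = P.coeff e + (e + 1) * a * P.coeff (e + 1) := by
    conv_lhs => rw [hP']
    rw [← coe_compRingHom_apply, map_sum, finsetSum_coeff, Finset.sum_range_succ, Finset.sum_range_succ]
    simp only [coe_compRingHom_apply]
    have hz : ∑ i ∈ Finset.range e,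
        ((Polynomial.C (P.coeff i) * Polynomial.X ^ i).comp (Polynomial.X + Polynomial.C a)).coeff e = 0 :=
      Finset.sum_eq_zero fun i hi => by
        simp [Nat.choose_eq_zero_of_lt (Finset.mem_range.1 hi), coeff_X_add_C_pow]
    rw [hz]
    simp [coeff_X_add_C_pow]
    ring
  rw [coeff_sub, hc]
  ring

variable (k : Type u) [Field k] [V.Over (Spec (CommRingCat.of k))] [IsProper (V ↘ Spec (CommRingCat.of k))]

set_option maxHeartbeats 1000000 in
theorem exists_section_sequence [IsIntegral V] {L : V.Modules} (hL : CohB1.IsAmple L) {e : ℕ}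
    (hd : DimLT (Set.univ : Set V) (e + 2)) (hd' : ¬ DimLT (Set.univ : Set V) (e + 1)) :
    ∃ (Q : V.Modules), Coh.IsCoh Q ∧ DimLT (CohB1.support Q) (e + 1) ∧ ¬ DimLT (CohB1.support Q) e ∧
      ∀ P : ℚ[X], ShStab.IsHilbPoly k V L (Coh.structureModule V) P →
        ∃ j : ℕ, 0 < j ∧ ShStab.IsHilbPoly k V L Q (P.comp (Polynomial.X + Polynomial.C (j : ℚ)) - P) := by
  have := Euler.isNoetherian_of_proper (X := V) k
  simp only [DimLT, not_forall, not_lt] at hd'
  obtain ⟨l, -, hl⟩ := hd'
  let x₁ : V := l ⟨e, by omega⟩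
  have hx₁ : x₁ ≠ genericPoint V := fun h => by
    have h1 : x₁ < l ⟨e + 1, by omega⟩ := l.strictMono (by simp [Fin.lt_def])
    exact not_le_of_gt h1 (h ▸ (genericPoint_spec V).specializes trivial)
  let O : V.Opens := ⟨(closure {x₁})ᶜ, isClosed_closure.isOpen_compl⟩
  have hηO : genericPoint V ∈ O := fun h => hx₁
    (Specializes.antisymm ((specializes_iff_mem_closure.2 h) : x₁ ⤳ genericPoint V)
      ((genericPoint_spec V).specializes trivial)).eq
  obtain ⟨n, s, hηs, hsO, -⟩ := Ample.exists_affine_genLocus_le hL hηO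
  haveI := mono_of_mem_genLocus s hηs
  let S := ShortComplex.mk s (cokernel.π s) (cokernel.condition s)
  have hS : S.ShortExact := ShortComplex.ShortExact.mk'
    (ShortComplex.exact_of_g_is_cokernel S (cokernelIsCokernel s)) inferInstance inferInstance
  have hO : Coh.IsCoh (Coh.structureModule V) := Euler.isCoh_of_isInvertible Euler.isInvertible_structure
  have hM : Coh.IsCoh (CohB1.tensorPow L (n + 1)) :=
    Euler.isCoh_of_isInvertible (Ample.isInvertible_tensorPow hL.1 _)
  have hQ : Coh.IsCoh (cokernel s) := QCoh.isCoh_cokernel s hO hM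
  have hx₁Q : x₁ ∈ CohB1.support (cokernel s) := by
    by_contra hx
    let U : V.Opens := ⟨(CohB1.support (cokernel s))ᶜ, (QCoh.isClosed_support_of_isCoh hQ).isOpen_compl⟩
    exact hsO (le_genLocus_of_disjoint_support s (U := U) (fun y hy => hy) (show x₁ ∈ U from hx))
      (subset_closure rfl)
  refine ⟨cokernel s, hQ, ?_, fun hlt => ?_, fun P hP => ⟨n + 1, n.succ_pos, ?_⟩⟩
  · refine Snapper.dimLT_of_notMem (η := genericPoint V) (by rwa [(genericPoint_spec V).def])
      (by rw [(genericPoint_spec V).def]; exact Set.subset_univ _) fun h => support_cokernel_subset s h hηs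
  · let r : Fin (e + 1) → Fin (l.length + 1) := fun i => ⟨i, by omega⟩
    let l' : LTSeries V := ⟨e, fun i => l (r i), fun i => l.strictMono (by simp [r, Fin.lt_def])⟩
    have := hlt l' fun i => (QCoh.isClosed_support_of_isCoh hQ).closure_subset_iff.2
      (Set.singleton_subset_iff.2 hx₁Q) (specializes_iff_mem_closure.1 (l.monotone (by
        show (⟨(i : ℕ), _⟩ : Fin (l.length + 1)) ≤ ⟨e, _⟩
        have := i.2
        simp only [l'] at this
        simp [Fin.le_def]; omega)))
    simp [l'] at this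
  · obtain ⟨c, ⟨ec⟩⟩ := Ample.exists_cocycle hL.1
    intro m
    have hpow : ∀ j, Nonempty (CohB1.tensorPow L j ≅ c.twist j) := fun j => c.nonempty_tensorPow_iso ec j
    have hshift : (Curv2.euler k V (ShStab.twist V L (CohB1.tensorPow L (n + 1)) m) : ℚ) =
        P.eval ((m : ℚ) + ((n + 1 : ℕ) : ℚ)) := by
      rw [← Nat.cast_add, ← hP, Int.cast_inj]
      obtain ⟨e1⟩ := hpow (n + 1)
      obtain ⟨e2⟩ := hpow m
      obtain ⟨e3⟩ := hpow (m + (n + 1))
      obtain ⟨e4⟩ := c.nonempty_tensor_twist (n + 1) m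
      obtain ⟨g⟩ := nonempty_tF_congr e1 e2
      obtain ⟨u⟩ := nonempty_unit_tF (CohB1.tensorPow L (m + (n + 1)))
      rw [twist_eq, twist_eq]
      exact Euler.euler_of_iso k (g ≪≫ e4 ≪≫ eqToIso (congrArg c.twist (add_comm (n + 1) m)) ≪≫ e3.symm ≪≫ u.symm)
    have hadd := Snapper.phi_additive k (L := fun _ : Fin 1 => L) (fun _ => hL.1) hS hO hM hQ
    have h := congrFun hadd (fun _ => m)
    rw [Pi.add_apply, ← euler_twist, ← euler_twist, ← euler_twist] at h
    simp only [eval_sub, eval_comp, eval_add, eval_X, eval_C]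
    change (Curv2.euler k V (ShStab.twist V L (cokernel s) m) : ℚ) = _
    change (Curv2.euler k V (ShStab.twist V L (CohB1.tensorPow L (n + 1)) m) : ℚ) =
      (Curv2.euler k V (ShStab.twist V L (Coh.structureModule V) m) : ℚ) +
      (Curv2.euler k V (ShStab.twist V L (cokernel s) m) : ℚ) at h
    rw [hshift, hP m] at h
    linarith

theorem coeff_zero_pos [IsIntegral V] {L : V.Modules} (hd : DimLT (Set.univ : Set V) 1) {P : ℚ[X]}
    (hP : ShStab.IsHilbPoly k V L (Coh.structureModule V) P) : 0 < P.coeff 0 := by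
  have hpt : ∀ x : V, x = genericPoint V := fun x => by
    by_contra hne
    have hlt : x < genericPoint V := lt_iff_le_not_ge.2 ⟨(genericPoint_spec V).specializes trivial, fun h =>
      hne (Specializes.antisymm h ((genericPoint_spec V).specializes trivial)).eq⟩
    have := hd ((RelSeries.singleton _ x).snoc (genericPoint V) (by simpa using hlt)) fun _ => trivial
    simp at this
  have hfin : (CohB1.support (Coh.structureModule V)).Finite :=
    (Set.finite_singleton (genericPoint V)).subset fun x _ => hpt x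
  have hcl : ∀ x ∈ CohB1.support (Coh.structureModule V), IsClosed ({x} : Set V) := fun x _ => by
    have : ({x} : Set V) = Set.univ := Set.eq_univ_of_forall fun y => (hpt y).trans (hpt x).symm
    rw [this]; exact isClosed_univ
  let e : (tF (Coh.structureModule V)).obj (Coh.structureModule V) ≅ Coh.structureModule V :=
    OX.tensorUnitLeftIso (Coh.structureModule V)
  have he : Curv2.euler k V (ShStab.twist V L (Coh.structureModule V) 0) =
      (Module.finrank k (Coh.HH V (Coh.structureModule V) 0) : ℤ) :=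
    (Euler.euler_of_iso k e).trans (Euler.euler_eq_of_finite_support k _ hfin hcl)
  have h0 := hP 0
  rw [he] at h0
  rw [coeff_zero_eq_eval_zero, ← Nat.cast_zero, ← h0]
  exact_mod_cast Euler.finrank_H0_structure_pos (X := V) k

end GrothLib.Hilb20
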