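import Groth.Agent.Lib.Hilb20.Gieseker

/-!
# Chains of subobjects and the Gieseker slope data
-/

set_option autoImplicit false
set_option linter.style.haveILetI false

universe u

open CategoryTheory CategoryTheory.Limits AlgebraicGeometry Polynomial

noncomputable section

namespace GrothLib.Hilb20

open GrothLib.Snapper (DimLT)
open StabCat (alpha RedLE RedLT RedEq)
open GrothLib.Slope20

variable {X : Scheme.{u}} (k : Type u) [Field k] [X.Over (Spec (CommRingCat.of k))]
  [IsProper (X ↘ Spec (CommRingCat.of k))] {L E E' : X.Modules} {d : ℕ}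

omit [IsProper (X ↘ Spec (CommRingCat.of k))] in
theorem isPure_of_iso (e : E ≅ E') (h : ShStab.IsPure X E d) : ShStab.IsPure X E' d :=
  fun F ι hι => h F (ι ≫ e.inv) (haveI := hι; inferInstance)

omit [IsProper (X ↘ Spec (CommRingCat.of k))] in
theorem isSemistable_of_iso (e : E ≅ E') (h : ShStab.IsSemistable k X L E d) :
    ShStab.IsSemistable k X L E' d := by
  refine ⟨QCoh.isCoh_of_iso e h.1, fun hz => h.2.1 (hz.of_iso e), isPure_of_iso e h.2.2.1,
    fun F ι hι hF hF0 hni pF pE hpF hpE => ?_⟩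
  haveI := hι
  exact h.2.2.2 F (ι ≫ e.inv) inferInstance hF hF0 (fun hi => hni (haveI := hi; IsIso.of_isIso_comp_right ι e.inv))
    pF pE hpF (isHilbPoly_congr e.symm hpE)

/-- The least coherent submodule. -/
def botC (E : X.Modules) : CohSub E := ⟨⊥, isCoh_bot E⟩

/-- The greatest coherent submodule. -/
def topC (hE : Coh.IsCoh E) : CohSub E := ⟨⊤, isCoh_top hE⟩

theorem botC_le (S : CohSub E) : (botC E).1 ≤ S.1 := bot_le

theorem le_topC (hE : Coh.IsCoh E) (S : CohSub E) : S.1 ≤ (topC hE).1 := le_top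

/-- The subquotient of a pair. -/
def quotBot (S : Subobject E) : cokernel (Subobject.ofLE ⊥ S bot_le) ≅ (S : X.Modules) :=
  haveI hz : IsZero ((⊥ : Subobject E) : X.Modules) := (isZero_zero _).of_iso Subobject.botCoeIsoZero
  cokernelIsoOfEq (hz.eq_zero_of_src _) ≪≫ cokernelZeroIsoTarget

/-- The subquotient of everything. -/
def quotBotTop (E : X.Modules) : cokernel (Subobject.ofLE ⊥ (⊤ : Subobject E) bot_le) ≅ E :=
  quotBot ⊤ ≪≫ asIso (⊤ : Subobject E).arrow

theorem hp_top (hL : CohB1.IsAmple L) (hE : Coh.IsCoh E) :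
    hp k L ((⊤ : Subobject E) : X.Modules) = hp k L E :=
  (hp_eq k hL (isCoh_top hE) (isHilbPoly_congr (asIso (⊤ : Subobject E).arrow).symm (isHilbPoly_hp k hL hE)))

theorem hp_bot' (hL : CohB1.IsAmple L) (E : X.Modules) : hp k L ((⊥ : Subobject E) : X.Modules) = 0 :=
  hp_eq k hL (isCoh_bot E) (isHilbPoly_of_isZero ((isZero_zero _).of_iso Subobject.botCoeIsoZero))

theorem pure_top [IsLocallyNoetherian X] (hL : CohB1.IsAmple L) (hE : Coh.IsCoh E)
    (hd : DimLT (CohB1.support E) (d + 1)) (hp' : ShStab.IsPure X E d) :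
    letI := cohSubLattice hE
    (gData k hL hE hd).Pure (botC E) (topC hE) :=
  (pure_iff k hL hE hd (botC E) (topC hE) bot_le).2 (isPure_of_iso (quotBotTop E).symm hp')

theorem ss_top [IsLocallyNoetherian X] (hL : CohB1.IsAmple L) (hE : Coh.IsCoh E)
    (hd : DimLT (CohB1.support E) (d + 1)) (hs : ShStab.IsSemistable k X L E d) :
    letI := cohSubLattice hE
    (gData k hL hE hd).SS (botC E) (topC hE) :=
  (ss_iff k hL hE hd (botC E) (topC hE) bot_le).2 (isSemistable_of_iso k (quotBotTop E).symm hs)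

omit [IsProper (X ↘ Spec (CommRingCat.of k))] in
theorem isCoh_src_of_mono [IsLocallyNoetherian X] {A B : X.Modules} (f : A ⟶ B) [Mono f] (hB : Coh.IsCoh B)
    (hC : Coh.IsCoh (cokernel f)) : Coh.IsCoh A :=
  QCoh.isCoh_of_iso
    ((Abelian.monoIsKernelOfCokernel (CokernelCofork.ofπ (cokernel.π f) (cokernel.condition f))
      (cokernelIsCokernel f)).conePointUniqueUpToIso (kernelIsKernel (cokernel.π f))).symm
    (QCoh.isCoh_kernel _ hB hC)

omit [IsProper (X ↘ Spec (CommRingCat.of k))] in
/-- The members of a chain with coherent factors are coherent. -/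
theorem isCoh_chain [IsLocallyNoetherian X] (hE : Coh.IsCoh E) (s : LTSeries (Subobject E)) (hlast : s.last = ⊤)
    (h : ∀ i, Coh.IsCoh (StabCat.factor s i)) (i : Fin (s.length + 1)) : Coh.IsCoh (s i : X.Modules) := by
  induction i using Fin.reverseInduction with
  | last => rw [show s (Fin.last _) = ⊤ from hlast]; exact isCoh_top hE
  | cast i ih =>
    haveI := Slope20.mono_ofLE (le_of_lt (s.step i))
    exact isCoh_src_of_mono _ ih (h i)

/-- A chain of coherent submodules as a chain of submodules. -/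
def chainVal (s : LTSeries (CohSub E)) : LTSeries (Subobject E) :=
  LTSeries.map s Subtype.val fun _ _ h => h

/-- A chain with coherent members as a chain of coherent submodules. -/
def chainLift (s : LTSeries (Subobject E)) (h : ∀ i, Coh.IsCoh (s i : X.Modules)) : LTSeries (CohSub E) where
  length := s.length
  toFun i := ⟨s i, h i⟩
  step i := s.step i

theorem chainVal_lift (s : LTSeries (Subobject E)) (h : ∀ i, Coh.IsCoh (s i : X.Modules)) :
    chainVal (chainLift s h) = s := rfl

theorem isHilbPoly_factor (hL : CohB1.IsAmple L) (s : LTSeries (CohSub E)) (i : Fin s.length) :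
    ShStab.IsHilbPoly k X L (StabCat.factor (chainVal s) i)
      (hp k L ((s i.succ).1 : X.Modules) - hp k L ((s i.castSucc).1 : X.Modules)) :=
  isHilbPoly_cokernel_ofLE k hL (le_of_lt (s.step i) : (s i.castSucc).1 ≤ (s i.succ).1) (s i.castSucc).2 (s i.succ).2

theorem isHN_iff [IsLocallyNoetherian X] (hL : CohB1.IsAmple L) (hE : Coh.IsCoh E)
    (hd : DimLT (CohB1.support E) (d + 1)) (s : LTSeries (CohSub E)) :
    letI := cohSubLattice hE
    (gData k hL hE hd).IsHN (botC E) (topC hE) s ↔ ShStab.IsHNFiltration k X L E d (chainVal s) := by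
  letI := cohSubLattice hE
  constructor
  · intro h
    refine ⟨congrArg Subtype.val h.head, congrArg Subtype.val h.last,
      fun i => (ss_iff k hL hE hd _ _ (le_of_lt (s.step i) : (s i.castSucc).1 ≤ (s i.succ).1)).1 (h.ss i),
      fun i j hij p q hp' hq => ?_⟩
    rw [isHilbPoly_unique hp' (isHilbPoly_factor k hL s i), isHilbPoly_unique hq (isHilbPoly_factor k hL s j)]
    exact (lt_iff_redLT k hL hE hd _ _ _ _).1 (h.decr i j hij)
  · rintro ⟨h1, h2, h3, h4⟩
    exact ⟨Subtype.ext h1, Subtype.ext h2,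
      fun i => (ss_iff k hL hE hd _ _ (le_of_lt (s.step i) : (s i.castSucc).1 ≤ (s i.succ).1)).2 (h3 i),
      fun i j hij => (lt_iff_redLT k hL hE hd _ _ _ _).2
        (h4 i j hij _ _ (isHilbPoly_factor k hL s i) (isHilbPoly_factor k hL s j))⟩

theorem isJH_iff [IsLocallyNoetherian X] (hL : CohB1.IsAmple L) (hE : Coh.IsCoh E)
    (hd : DimLT (CohB1.support E) (d + 1)) (s : LTSeries (CohSub E)) :
    letI := cohSubLattice hE
    (gData k hL hE hd).IsJH (botC E) (topC hE) s ↔ ShStab.IsJHFiltration k X L E d (chainVal s) := by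
  letI := cohSubLattice hE
  have e : hp k L ((topC hE).1 : X.Modules) - hp k L ((botC E).1 : X.Modules) = hp k L E := by
    show hp k L ((⊤ : Subobject E) : X.Modules) - hp k L ((⊥ : Subobject E) : X.Modules) = _
    rw [hp_top k hL hE, hp_bot' k hL E, sub_zero]
  constructor
  · intro h
    refine ⟨congrArg Subtype.val h.head, congrArg Subtype.val h.last, fun i =>
      ⟨(st_iff k hL hE hd _ _ (le_of_lt (s.step i) : (s i.castSucc).1 ≤ (s i.succ).1)).1 (h.st i),
        fun p q hp' hq => ?_⟩⟩
    rw [isHilbPoly_unique hp' (isHilbPoly_factor k hL s i), ← hp_eq k hL hE hq, ← e]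
    exact (eq'_iff_redEq k hL hE hd _ _ _ _).1 (h.eq i)
  · rintro ⟨h1, h2, h3⟩
    refine ⟨Subtype.ext h1, Subtype.ext h2,
      fun i => (st_iff k hL hE hd _ _ (le_of_lt (s.step i) : (s i.castSucc).1 ≤ (s i.succ).1)).2 (h3 i).1,
      fun i => (eq'_iff_redEq k hL hE hd _ _ _ _).2 ?_⟩
    rw [e]
    exact (h3 i).2 _ _ (isHilbPoly_factor k hL s i) (isHilbPoly_hp k hL hE)

end GrothLib.Hilb20
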