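import Groth.Agent.Lib.Snapper.Polynomial
import Groth.Prelude.Def_ShStab

/-!
# Hilbert polynomials with respect to an invertible module
-/

set_option autoImplicit false
set_option linter.style.haveILetI false

universe u

open CategoryTheory CategoryTheory.Limits AlgebraicGeometry Polynomial

noncomputable section

namespace GrothLib.Hilb20

open GrothLib.Euler (tF)
open GrothLib.Snapper (DimLT polyLT phi)

variable {X : Scheme.{u}} (k : Type u) [Field k] [X.Over (Spec (CommRingCat.of k))]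

theorem exists_poly_of_mem {d : ℕ} {f : (Fin 1 → ℕ) → ℚ} (hf : f ∈ polyLT 1 d) :
    ∃ P : ℚ[X], P.degree < (d : WithBot ℕ) ∧ ∀ m : ℕ, f (fun _ => m) = P.eval (m : ℚ) := by
  induction hf using Submodule.span_induction with
  | mem g hg =>
    obtain ⟨e, he, rfl⟩ := hg
    refine ⟨Polynomial.X ^ e 0, ?_, fun m => by simp [Snapper.mono]⟩
    rw [degree_X_pow]
    have he' : e 0 < d := by simpa using he
    exact_mod_cast he'
  | zero => exact ⟨0, by rw [degree_zero]; exact WithBot.bot_lt_coe d, fun m => by simp⟩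
  | add f g _ _ hf hg =>
    obtain ⟨P, hP, hf⟩ := hf
    obtain ⟨Q, hQ, hg⟩ := hg
    exact ⟨P + Q, (degree_add_le _ _).trans_lt (max_lt hP hQ), fun m => by simp [hf, hg]⟩
  | smul c f _ hf =>
    obtain ⟨P, hP, hf⟩ := hf
    exact ⟨c • P, (degree_smul_le _ _).trans_lt hP, fun m => by simp [hf]⟩

theorem euler_twist (L E : X.Modules) (m : ℕ) :
    (Curv2.euler k X (ShStab.twist X L E m) : ℚ) = phi k 1 (fun _ => L) E (fun _ => m) :=
  Snapper.euler_tensorPows k (fun _ : Fin 1 => L) E (fun _ => m)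

theorem eq_of_forall_nat_eval {P Q : ℚ[X]} (h : ∀ m : ℕ, P.eval (m : ℚ) = Q.eval (m : ℚ)) : P = Q :=
  eq_of_infinite_eval_eq _ _ ((Set.infinite_range_of_injective (Nat.cast_injective (R := ℚ))).mono (by
    rintro _ ⟨m, rfl⟩
    exact h m))

variable {k}

theorem isHilbPoly_unique {L E : X.Modules} {P Q : ℚ[X]} (hP : ShStab.IsHilbPoly k X L E P)
    (hQ : ShStab.IsHilbPoly k X L E Q) : P = Q :=
  eq_of_forall_nat_eval fun m => (hP m).symm.trans (hQ m)

theorem isHilbPoly_congr {L E E' : X.Modules} (e : E ≅ E') {P : ℚ[X]} (hP : ShStab.IsHilbPoly k X L E P) :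
    ShStab.IsHilbPoly k X L E' P := fun m => by
  rw [euler_twist, ← Snapper.phi_of_iso k _ e, ← euler_twist]
  exact hP m

variable [IsProper (X ↘ Spec (CommRingCat.of k))]

theorem isHilbPoly_of_isZero {L E : X.Modules} (hE : IsZero E) : ShStab.IsHilbPoly k X L E 0 := fun m => by
  rw [euler_twist, phi, Snapper.euler_eq_zero_of_isZero k ((tF _).map_isZero hE), Int.cast_zero, eval_zero]

theorem exists_isHilbPoly_of_dimLT {L E : X.Modules} (hL : PicF.IsInvertible L) (hE : Coh.IsCoh E) {d : ℕ}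
    (hd : DimLT (CohB1.support E) d) :
    ∃ P : ℚ[X], ShStab.IsHilbPoly k X L E P ∧ P.degree < (d : WithBot ℕ) := by
  obtain ⟨P, h1, h2⟩ := exists_poly_of_mem (Snapper.phi_mem_polyLT k (L := fun _ : Fin 1 => L) (fun _ => hL) d E hE hd)
  exact ⟨P, fun m => (euler_twist k L E m).trans (h2 m), h1⟩

theorem degree_lt_of_dimLT {L E : X.Modules} (hL : PicF.IsInvertible L) (hE : Coh.IsCoh E) {d : ℕ}
    (hd : DimLT (CohB1.support E) d) {P : ℚ[X]} (hP : ShStab.IsHilbPoly k X L E P) :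
    P.degree < (d : WithBot ℕ) := by
  obtain ⟨Q, hQ, h⟩ := exists_isHilbPoly_of_dimLT (k := k) hL hE hd
  rwa [isHilbPoly_unique hP hQ]

theorem coeff_eq_zero_of_dimLT {L E : X.Modules} (hL : PicF.IsInvertible L) (hE : Coh.IsCoh E) {d n : ℕ}
    (hd : DimLT (CohB1.support E) d) {P : ℚ[X]} (hP : ShStab.IsHilbPoly k X L E P) (hn : d ≤ n) :
    P.coeff n = 0 :=
  coeff_eq_zero_of_degree_lt ((degree_lt_of_dimLT hL hE hd hP).trans_le (by exact_mod_cast hn))

theorem isHilbPoly_add {L : X.Modules} (hL : PicF.IsInvertible L) {S : ShortComplex X.Modules}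
    (hS : S.ShortExact) (h₁ : Coh.IsCoh S.X₁) (h₂ : Coh.IsCoh S.X₂) (h₃ : Coh.IsCoh S.X₃) {P Q : ℚ[X]}
    (hP : ShStab.IsHilbPoly k X L S.X₁ P) (hQ : ShStab.IsHilbPoly k X L S.X₃ Q) :
    ShStab.IsHilbPoly k X L S.X₂ (P + Q) := fun m => by
  rw [euler_twist, Snapper.phi_additive k (fun _ => hL) hS h₁ h₂ h₃, Pi.add_apply, ← euler_twist, ← euler_twist,
    hP m, hQ m, eval_add]

theorem eq_add_of_shortExact {L : X.Modules} (hL : PicF.IsInvertible L) {S : ShortComplex X.Modules}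
    (hS : S.ShortExact) (h₁ : Coh.IsCoh S.X₁) (h₂ : Coh.IsCoh S.X₂) (h₃ : Coh.IsCoh S.X₃) {P₁ P₂ P₃ : ℚ[X]}
    (hP₁ : ShStab.IsHilbPoly k X L S.X₁ P₁) (hP₂ : ShStab.IsHilbPoly k X L S.X₂ P₂)
    (hP₃ : ShStab.IsHilbPoly k X L S.X₃ P₃) : P₂ = P₁ + P₃ :=
  isHilbPoly_unique hP₂ (isHilbPoly_add hL hS h₁ h₂ h₃ hP₁ hP₃)

end GrothLib.Hilb20
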