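import Groth.Agent.Lib.Hilb20.Morph
import Groth.Agent.Lib.BCCoh.FlatBC
import Groth.Agent.Lib.QCohDesc.Basic
import Groth.Agent.Lib.OX.PullbackTensor
import Groth.Agent.Lib.Ample.Functorial
import Groth.Agent.Lib.VA.Tensor
import Groth.Agent.Lib.FittSheaf.Pullback
import Mathlib.LinearAlgebra.Dimension.Constructions

/-!
# Hilbert polynomials under extension of the ground field
-/

set_option autoImplicit false
set_option linter.style.haveILetI false

universe u

open CategoryTheory CategoryTheory.Limits AlgebraicGeometry Polynomial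

noncomputable section

namespace GrothLib.Hilb20

variable (k : Type u) [Field k] {X : Scheme.{u}} [X.Over (Spec (CommRingCat.of k))]
  (K : Type u) [Field K] [Algebra k K]

local notation "gK" => Curv2.bcFst k X K

omit [Field K] in
theorem flat_bcFst' [Field K] [Algebra k K] : Flat (Curv2.bcFst k X K) := by
  haveI : Flat (Spec.map (CommRingCat.ofHom (algebraMap k K))) := by
    rw [HasRingHomProperty.Spec_iff (P := @Flat)]
    exact RingHom.flat_algebraMap_iff.2 inferInstance
  infer_instance

theorem surjective_bcFst' : Surjective (Curv2.bcFst k X K) := by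
  haveI : Surjective (Spec.map (CommRingCat.ofHom (algebraMap k K))) := ⟨fun x =>
    ⟨⟨⊥, Ideal.isPrime_bot⟩, Subsingleton.elim (α := PrimeSpectrum k) _ _⟩⟩
  infer_instance

theorem isProper_bc [IsProper (X ↘ Spec (CommRingCat.of k))] :
    IsProper (Curv2.bc k X K ↘ Spec (CommRingCat.of K)) := by
  show IsProper (pullback.snd _ _)
  infer_instance

theorem isCoh_pullback_bc {M : X.Modules} (hM : Coh.IsCoh M) :
    Coh.IsCoh ((Scheme.Modules.pullback gK).obj M) :=
  haveI := hM.1
  haveI := FittSheaf.isQuasicoherent_pullback gK M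
  ⟨inferInstance, (QCoh.isFiniteType_iff_moduleFinite _).2 fun V hV => FittSheaf.moduleFinite_pullback gK M hM.2 hV⟩

/-- Euler characteristics do not change under extension of the ground field. -/
theorem euler_bc [IsProper (X ↘ Spec (CommRingCat.of k))] (M : X.Modules) [M.IsQuasicoherent] :
    Curv2.euler K (Curv2.bc k X K) ((Scheme.Modules.pullback gK).obj M) = Curv2.euler k X M := by
  haveI := Euler.isNoetherian_of_proper (X := X) k
  haveI : X.IsSeparated := ⟨by
    rw [← terminal.comp_from (X ↘ Spec (CommRingCat.of k))]; infer_instance⟩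
  unfold Curv2.euler
  refine finsum_congr fun i => ?_
  congr 2
  obtain ⟨e⟩ := BCCoh.exists_flatBC (algebraMap k K) (RingHom.flat_algebraMap_iff.2 inferInstance)
    (X ↘ Spec (CommRingCat.of k)) (Curv2.bcSnd k X K) gK (IsPullback.of_hasPullback _ _) M i
  letI := (algebraMap k K).toAlgebra
  letI := BCCoh.modHH (X ↘ Spec (CommRingCat.of k)) M i
  letI := BCCoh.modHH (Curv2.bcSnd k X K) ((Scheme.Modules.pullback gK).obj M) i
  have h1 := e.finrank_eq
  rw [Module.finrank_baseChange] at h1
  exact h1.symm

variable {L E F : X.Modules} {P : ℚ[X]}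

/-- Hilbert polynomials do not change under extension of the ground field. -/
theorem isHilbPoly_bc [IsProper (X ↘ Spec (CommRingCat.of k))] (hL : PicF.IsInvertible L) (hE : Coh.IsCoh E)
    (hP : ShStab.IsHilbPoly k X L E P) :
    ShStab.IsHilbPoly K (Curv2.bc k X K) ((Scheme.Modules.pullback gK).obj L)
      ((Scheme.Modules.pullback gK).obj E) P := by
  intro m
  haveI := hE.1
  obtain ⟨p⟩ := Ample.nonempty_pullback_tensorPow gK hL m
  haveI : (CohB1.tensorPow L m).IsQuasicoherent :=
    (Euler.isCoh_of_isInvertible (Ample.isInvertible_tensorPow hL m)).1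
  haveI : (ShStab.twist X L E m).IsQuasicoherent := VA.isQCoh_tensor hE.1 (Euler.isCoh_of_isInvertible (Ample.isInvertible_tensorPow hL m)).1
  let j : (Scheme.Modules.pullback gK).obj (ShStab.twist X L E m) ≅
      ShStab.twist (Curv2.bc k X K) ((Scheme.Modules.pullback gK).obj L) ((Scheme.Modules.pullback gK).obj E) m :=
    OX.pullTensorIso gK E (CohB1.tensorPow L m) ≪≫
      ((DCoh.tensorBi (X := Curv2.bc k X K)).obj ((Scheme.Modules.pullback gK).obj E)).mapIso p
  rw [← Euler.euler_of_iso K j, euler_bc]
  exact hP m

theorem isZero_of_pullback_bc (h : IsZero ((Scheme.Modules.pullback gK).obj E)) : IsZero E := by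
  haveI := flat_bcFst' k K (X := X)
  haveI := surjective_bcFst' k K (X := X)
  haveI := QCohDesc.mono_unit gK E
  exact IsZero.of_mono ((Scheme.Modules.pullbackPushforwardAdjunction gK).unit.app E)
    (Functor.map_isZero (Scheme.Modules.pushforward gK) h)

theorem isZero_pullback_bc (h : IsZero E) : IsZero ((Scheme.Modules.pullback gK).obj E) :=
  Functor.map_isZero _ h

theorem mono_pullback_bc (ι : F ⟶ E) [Mono ι] : Mono ((Scheme.Modules.pullback gK).map ι) :=
  haveI := flat_bcFst' k K (X := X)
  QCohDesc.mono_pullback_map gK ι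

theorem isIso_of_pullback_bc (ι : F ⟶ E) [Mono ι] (h : IsIso ((Scheme.Modules.pullback gK).map ι)) : IsIso ι := by
  haveI := flat_bcFst' k K (X := X)
  haveI := surjective_bcFst' k K (X := X)
  haveI := h
  haveI : Epi ι := ⟨fun {Z} a b hab => by
    haveI := QCohDesc.mono_unit gK Z
    have h2 : (Scheme.Modules.pullback gK).map a = (Scheme.Modules.pullback gK).map b := by
      rw [← cancel_epi ((Scheme.Modules.pullback gK).map ι), ← Functor.map_comp, hab, Functor.map_comp]
    rw [← cancel_mono ((Scheme.Modules.pullbackPushforwardAdjunction gK).unit.app Z)]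
    have n1 := (Scheme.Modules.pullbackPushforwardAdjunction gK).unit.naturality a
    have n2 := (Scheme.Modules.pullbackPushforwardAdjunction gK).unit.naturality b
    simp only [Functor.id_map, Functor.comp_map] at n1 n2
    rw [n1, n2, h2]⟩
  exact isIso_of_mono_of_epi ι

end GrothLib.Hilb20
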