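import Groth.Agent.Lib.Hilb20.Saturation
import Groth.Agent.Lib.Ref1.Extend
import Groth.Agent.Lib.Ref1.Generic
import Groth.Agent.Lib.AffDom.LocalDim
import Groth.Agent.Lib.WeilExt.Extend
import Groth.Agent.Lib.RegLoc.Normal
import Groth.Agent.Lib.Dim.QuasiFinite

/-!
# Slope-stable reflexive modules
-/

set_option autoImplicit false
set_option linter.style.haveILetI false

universe u

open CategoryTheory CategoryTheory.Limits AlgebraicGeometry Polynomial

noncomputable section

namespace GrothLib.Hilb20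

open GrothLib.Snapper (DimLT)
open StabCat (alpha hatSlope)
open GrothLib.Ref1 (sp hη)
open GrothLib.QCoh (stalkLin)

variable {X : Scheme.{u}} [IsIntegral X]

theorem dim_stalk_two_le {K : Type u} [Field K] (f : X ⟶ Spec (CommRingCat.of K)) [LocallyOfFiniteType f] {n : ℕ}
    (hX : topologicalKrullDim X = (n : WithBot ℕ∞)) {S : Set X} (hS : IsClosed S) {m : ℕ} (hm : m + 1 = n)
    (hd : DimLT S m) {x : X} (hx : x ∈ S) : (2 : WithBot ℕ∞) ≤ ringKrullDim (X.presheaf.stalk x) := by
  obtain ⟨e, rfl⟩ : ∃ e, m = e + 1 := by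
    refine ⟨m - 1, ?_⟩
    by_contra h
    obtain rfl : m = 0 := by omega
    exact Snapper.not_dimLT_zero ⟨x, hx⟩ hd
  have h1 : AffDom.ptDim x ≤ (e : WithBot ℕ∞) :=
    Snapper.dim_le_of_dimLT isClosed_closure (hd.mono (hS.closure_subset_iff.2 (Set.singleton_subset_iff.2 hx)))
  obtain ⟨N, hN, hU⟩ := Dim.exists_nat_dim_open f
  have hNn : N = n := by
    have := hN.symm.trans hX
    exact_mod_cast this
  have h2 : FlatMor.localDim X x = (n : WithBot ℕ∞) := le_antisymm
    ((iInf_le _ ⟨⊤, trivial⟩).trans ((hU ⊤ ⟨⟨x, trivial⟩⟩).trans (by rw [hNn])).le)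
    (le_iInf fun U => ((hU U.1 ⟨⟨x, U.2⟩⟩).trans (by rw [hNn])).ge)
  rw [AffDom.localDim_eq f x] at h2
  by_contra hlt
  have h3 : ringKrullDim (X.presheaf.stalk x) ≤ 1 := by_contra fun h => hlt (Ref1.two_le_of_not_le_one h)
  have h4 : (n : WithBot ℕ∞) ≤ ((e + 1 : ℕ) : WithBot ℕ∞) := by
    rw [← h2]; push_cast; exact add_le_add h1 h3
  have : n ≤ e + 1 := by exact_mod_cast h4
  omega

variable [IsLocallyNoetherian X]

omit [IsLocallyNoetherian X] in
theorem isPure_of_sp_injective {F : X.Modules} (hs : ∀ x, Function.Injective (sp F (hη x))) {n : ℕ}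
    (hX : topologicalKrullDim X = (n : WithBot ℕ∞)) : ShStab.IsPure X F n := by
  intro G ι hι hG hG0
  haveI := hι
  obtain ⟨x, hx⟩ : (CohB1.support G).Nonempty :=
    Set.nonempty_iff_ne_empty.2 fun he => hG0 (isZero_of_support_eq_empty he)
  haveI : Nontrivial (G.presheaf.stalk x) := not_subsingleton_iff_nontrivial.1 hx
  obtain ⟨v, hv⟩ := exists_ne (0 : G.presheaf.stalk x)
  have hinj : Function.Injective (RefHull.stalkMapₗ ι x) := QCoh.stalkLin_injective ι x
  have hne : sp F (hη x) (RefHull.stalkMapₗ ι x v) ≠ 0 :=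
    (map_ne_zero_iff _ (hs x)).2 ((map_ne_zero_iff _ hinj).2 hv)
  rw [← Ref1.stalkMapₗ_sp] at hne
  have hηG : genericPoint X ∈ CohB1.support G := fun h =>
    hne (by rw [@Subsingleton.elim _ h (sp G (hη x) v) 0, map_zero])
  have hu : CohB1.support G = Set.univ := by
    refine Set.eq_univ_of_forall fun y => ?_
    exact (QCoh.isClosed_support_of_isCoh hG).closure_subset_iff.2 (Set.singleton_subset_iff.2 hηG)
      (specializes_iff_mem_closure.1 (hη y))
  rw [hu, Dim.topologicalKrullDim_univ, hX]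

/-- A monomorphism of reflexive modules which is surjective in codimension one is an isomorphism. -/
theorem isIso_of_reflexive (hN : Pi1.IsNormalScheme X) {F G : X.Modules} (hF : Coh.IsCoh F) (hG : Coh.IsCoh G)
    (hFr : RefHull.IsReflexive F) (hGr : RefHull.IsReflexive G) (φ : F ⟶ G) [Mono φ]
    (hgen : genericPoint X ∉ CohB1.support (cokernel φ))
    (h1 : ∀ x : X, ringKrullDim (X.presheaf.stalk x) = 1 → x ∉ CohB1.support (cokernel φ)) : IsIso φ := by
  haveI := hF.1
  haveI := hG.1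
  have hrel := HomSh.hasRel_of_isCoh hF
  have hrelG := HomSh.hasRel_of_isCoh hG
  have hsurj : ∀ x : X, x ∉ CohB1.support (cokernel φ) → Function.Surjective (RefHull.stalkMapₗ φ x) := by
    intro x hx v
    haveI := QCoh.stalk_subsingleton_of_notMem hx
    have he := (OX.exact_iff (ShortComplex.mk φ (cokernel.π φ) (cokernel.condition φ))).1
      (ShortComplex.exact_cokernel φ) x
    rw [ShortComplex.moduleCat_exact_iff] at he
    exact he v (Subsingleton.elim (α := (cokernel φ).presheaf.stalk x) _ _)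
  have hinj : Function.Injective (RefHull.stalkMapₗ φ (genericPoint X)) := QCoh.stalkLin_injective φ _
  let e := LinearEquiv.ofBijective (RefHull.stalkMapₗ φ (genericPoint X)) ⟨hinj, hsurj _ hgen⟩
  obtain ⟨ψ, hψ⟩ := Ref1.exists_hom_of_dim_one hN hrel hFr e.symm.toLinearMap fun x hx v => by
    obtain ⟨w, hw⟩ := hsurj x (h1 x hx) v
    refine ⟨w, e.injective ?_⟩
    rw [LinearEquiv.coe_coe, e.apply_symm_apply, ← hw]
    exact Ref1.stalkMapₗ_sp F φ (hη x) w
  refine ⟨ψ, Ref1.hom_ext_generic (Ref1.injective_sp_of_isReflexive hN hrel hFr) (LinearMap.ext fun v => ?_),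
    Ref1.hom_ext_generic (Ref1.injective_sp_of_isReflexive hN hrelG hGr) (LinearMap.ext fun v => ?_)⟩
  · rw [Ref1.stalkMapₗ_comp, Ref1.stalkMapₗ_id, LinearMap.comp_apply, hψ, LinearMap.id_apply]
    exact e.symm_apply_apply v
  · rw [Ref1.stalkMapₗ_comp, Ref1.stalkMapₗ_id, LinearMap.comp_apply, hψ, LinearMap.id_apply]
    exact e.apply_symm_apply v

variable (k : Type u) [Field k] [X.Over (Spec (CommRingCat.of k))] [IsProper (X ↘ Spec (CommRingCat.of k))]

omit [IsIntegral X] in
/-- A nonzero map of slope-stable pure modules with `μ(G) ≤ μ(F)` is injective with cokernel in codimension two. -/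
theorem mono_and_dimLT_of_isMuStable {n : ℕ} (hn : 1 ≤ n) {L F G : X.Modules} (hL : CohB1.IsAmple L)
    (hFp : ShStab.IsPure X F n) (hGp : ShStab.IsPure X G n)
    (hF : ShStab.IsMuStable k X L F n) (hG : ShStab.IsMuStable k X L G n) {pF pG : ℚ[X]}
    (hpF : ShStab.IsHilbPoly k X L F pF) (hpG : ShStab.IsHilbPoly k X L G pG)
    (hle : hatSlope n pG ≤ hatSlope n pF) {φ : F ⟶ G} (hφ : φ ≠ 0) :
    Mono φ ∧ DimLT (CohB1.support (cokernel φ)) (n - 1) := by
  haveI := Euler.isNoetherian_of_proper (X := X) k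
  have hdG := isPure_self_dimLT hG.1 hGp
  have aF := alpha_pos_self hL hF.1 hF.2.1 hFp hpF
  have aG := alpha_pos_self hL hG.1 hG.2.1 hGp hpG
  obtain ⟨w, hS⟩ := QCoh.shortExact_kernel_image φ
  have hK := QCoh.isCoh_kernel φ hF.1 hG.1
  have hI := isCoh_image (k := k) φ hF.1 hG.1
  obtain ⟨pK, hpK⟩ := exists_isHilbPoly_sub (k := k) hL hFp (kernel.ι φ) hK
  obtain ⟨pI, hpI⟩ := exists_isHilbPoly_sub (k := k) hL hGp (Abelian.image.ι φ) hI
  have e : pF = pK + pI := eq_add_of_shortExact hL.1 hS hK hF.1 hI hpK hpF hpI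
  have aI := alpha_pos_of_pure hL hGp (Abelian.image.ι φ) hI (image_not_isZero hφ) hpI
  have hIG := alpha_le_of_mono hL hI hG.1 hdG (Abelian.image.ι φ) hpI hpG
  have hsI : hatSlope n pI ≤ hatSlope n pG := by
    rcases lt_or_eq_of_le hIG with h | h
    · exact (hG.2.2.2.2 _ (Abelian.image.ι φ) inferInstance hI pI pG hpI hpG aI h).le
    · have := alpha_pred_le_of_alpha_eq hn hL hI hG.1 hdG (Abelian.image.ι φ) hpI hpG h
      rw [hatSlope, hatSlope, h]
      exact div_le_div_of_nonneg_right this aG.le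
  have hmono : Mono φ := by
    by_contra hm
    have hK0 : ¬ IsZero (kernel φ) := fun hz => hm (Preadditive.mono_of_kernel_zero (hz.eq_zero_of_src _))
    have aK := alpha_pos_of_pure hL hFp (kernel.ι φ) hK hK0 hpK
    have hlt : alpha n pK < alpha n pF := by rw [e, alpha_add]; linarith
    have hsK := hF.2.2.2.2 _ (kernel.ι φ) inferInstance hK pK pF hpK hpF aK hlt
    have h1 := hsI.trans hle
    rw [hatSlope, hatSlope, div_le_div_iff₀ aI aF, e, alpha_add, alpha_add] at h1
    rw [hatSlope, hatSlope, div_lt_div_iff₀ aK aF, e, alpha_add, alpha_add] at hsK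
    linarith
  haveI := hmono
  refine ⟨hmono, ?_⟩
  have hle' := alpha_le_of_mono hL hF.1 hG.1 hdG φ hpF hpG
  have heq : alpha n pF = alpha n pG := by
    refine le_antisymm hle' (le_of_not_gt fun h => ?_)
    exact (hG.2.2.2.2 _ φ hmono hF.1 pF pG hpF hpG aF h).not_ge hle
  obtain ⟨hC, hsub, pC, hpC, e'⟩ := exists_quotient_poly hL hF.1 hG.1 φ hpF hpG
  have h0 : alpha n pC = 0 := by rw [e', alpha_add] at heq; linarith
  have hC1 : DimLT (CohB1.support (cokernel φ)) (n - 1 + 1) := by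
    rw [Nat.sub_add_cancel hn]; exact dimLT_of_alpha_eq_zero hL hC (hdG.mono hsub) hpC h0
  refine dimLT_of_alpha_eq_zero hL hC hC1 hpC (le_antisymm ?_ (alpha_nonneg hL hC hC1 hpC))
  rw [hatSlope, hatSlope, ← heq, div_le_div_iff_of_pos_right aF, e', alpha_add] at hle
  linarith

omit [IsIntegral X] [IsLocallyNoetherian X] [IsProper (X ↘ Spec (CommRingCat.of k))] in
theorem isNormalScheme_of_smooth [Smooth (X ↘ Spec (CommRingCat.of k))] : Pi1.IsNormalScheme X := fun x => by
  have := WeilExt.isRegularLocalRing_stalk_of_smooth (X ↘ Spec (CommRingCat.of k))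
    (WeilExt.isRegularLocalRing_stalk_spec k) x
  exact ⟨CMFree.isDomain_of_isRegularLocalRing _, RegLoc.isIntegrallyClosed_of_isRegularLocalRing _⟩

theorem isIso_of_isMuStable [Smooth (X ↘ Spec (CommRingCat.of k))] {n : ℕ} (hn : 1 ≤ n)
    (hX : topologicalKrullDim X = (n : WithBot ℕ∞)) {L F G : X.Modules} (hL : CohB1.IsAmple L)
    (hFr : RefHull.IsReflexive F) (hGr : RefHull.IsReflexive G)
    (hF : ShStab.IsMuStable k X L F n) (hG : ShStab.IsMuStable k X L G n) {pF pG : ℚ[X]}
    (hpF : ShStab.IsHilbPoly k X L F pF) (hpG : ShStab.IsHilbPoly k X L G pG)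
    (hle : hatSlope n pG ≤ hatSlope n pF) {φ : F ⟶ G} (hφ : φ ≠ 0) : IsIso φ := by
  haveI := Euler.isNoetherian_of_proper (X := X) k
  haveI := hF.1.1
  haveI := hG.1.1
  have hN := isNormalScheme_of_smooth (X := X) k
  obtain ⟨hm, hd⟩ := mono_and_dimLT_of_isMuStable k hn hL
    (isPure_of_sp_injective (Ref1.injective_sp_of_isReflexive hN (HomSh.hasRel_of_isCoh hF.1) hFr) hX)
    (isPure_of_sp_injective (Ref1.injective_sp_of_isReflexive hN (HomSh.hasRel_of_isCoh hG.1) hGr) hX)
    hF hG hpF hpG hle hφ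
  haveI := hm
  have hcl := QCoh.isClosed_support_of_isCoh (QCoh.isCoh_cokernel φ hF.1 hG.1)
  have h2 : ∀ x ∈ CohB1.support (cokernel φ), (2 : WithBot ℕ∞) ≤ ringKrullDim (X.presheaf.stalk x) :=
    fun x hx => dim_stalk_two_le (X ↘ Spec (CommRingCat.of k)) hX hcl (Nat.sub_add_cancel hn) hd hx
  refine isIso_of_reflexive hN hF.1 hG.1 hFr hGr φ (fun h => ?_) fun x hx h => ?_
  · have h0 := h2 _ h
    rw [ringKrullDim_eq_zero_of_isField CurvePoints.isField_stalk_genericPoint] at h0
    exact absurd h0 (by decide)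
  · have h0 := h2 _ h
    rw [hx] at h0
    exact absurd h0 (by decide)

end GrothLib.Hilb20
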