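import Groth.Agent.Lib.Hilb20.Morph
import Groth.Agent.Lib.Dim.Scheme

/-!
# Truncations, slopes and semistability
-/

set_option autoImplicit false
set_option linter.style.haveILetI false

universe u

open CategoryTheory CategoryTheory.Limits AlgebraicGeometry Polynomial

noncomputable section

namespace GrothLib.Hilb20

open GrothLib.Snapper (DimLT)
open StabCat (alpha hatSlope topPart PolyLE RedLE RedLT RedEq)

variable {d ℓ : ℕ}

theorem coeff_topPart (P : ℚ[X]) (n : ℕ) :
    (topPart ℓ d P).coeff n = if n ∈ Finset.Icc (d - ℓ) d then P.coeff n else 0 := by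
  simp only [topPart, finsetSum_coeff, coeff_monomial]
  exact Finset.sum_ite_eq' _ _ _

theorem alpha_topPart (P : ℚ[X]) : alpha d (topPart ℓ d P) = alpha d P := by
  simp [alpha, coeff_topPart]

theorem topPart_smul (c : ℚ) (P : ℚ[X]) : topPart ℓ d (c • P) = c • topPart ℓ d P :=
  ext fun n => by simp [coeff_topPart]

theorem topPart_sub (P Q : ℚ[X]) : topPart ℓ d (P - Q) = topPart ℓ d P - topPart ℓ d Q :=
  ext fun n => by simp only [coeff_topPart, coeff_sub]; split_ifs <;> simp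

theorem topPart_self {P : ℚ[X]} (h : P.degree < ((d + 1 : ℕ) : WithBot ℕ)) : topPart d d P = P :=
  ext fun n => by
    rw [coeff_topPart]
    split_ifs with hn
    · rfl
    · simp only [tsub_self, Finset.mem_Icc, zero_le, true_and, not_le] at hn
      exact (coeff_eq_zero_of_degree_lt (h.trans_le (by exact_mod_cast hn))).symm

theorem natDegree_le_of_forall {P : ℚ[X]} (h : ∀ n, d < n → P.coeff n = 0) : P.natDegree ≤ d :=
  natDegree_le_iff_coeff_eq_zero.2 h

/-- If a polynomial of degree `≤ d` is eventually `≤ 0`, so are its truncations. -/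
theorem topPart_nonpos {D : ℚ[X]} (hD : D.degree < ((d + 1 : ℕ) : WithBot ℕ))
    (h : ∃ N : ℕ, ∀ m : ℕ, N ≤ m → D.eval (m : ℚ) ≤ 0) :
    ∃ N : ℕ, ∀ m : ℕ, N ≤ m → (topPart ℓ d D).eval (m : ℚ) ≤ 0 := by
  set T := topPart ℓ d D with hT
  by_cases h0 : T = 0
  · exact ⟨0, fun m _ => by rw [h0, eval_zero]⟩
  have hTd : T.natDegree ≤ d := natDegree_le_of_forall fun n hn => by
    rw [hT, coeff_topPart, if_neg (by simp; omega)]
  set e := T.natDegree with he
  have hce : T.coeff e ≠ 0 := by rw [he]; exact leadingCoeff_ne_zero.2 h0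
  have hmem : e ∈ Finset.Icc (d - ℓ) d := by
    by_contra hne
    exact hce (by rw [hT, coeff_topPart, if_neg hne])
  have hDe : D.degree < ((e + 1 : ℕ) : WithBot ℕ) := by
    refine (degree_lt_iff_coeff_zero _ _).2 fun n hn => ?_
    by_cases hnd : d < n
    · exact coeff_eq_zero_of_degree_lt (hD.trans_le (by exact_mod_cast hnd))
    · have hn' : n ∈ Finset.Icc (d - ℓ) d := by simp at hmem ⊢; omega
      have hz : T.coeff n = 0 := coeff_eq_zero_of_natDegree_lt (by omega)
      rwa [hT, coeff_topPart, if_pos hn'] at hz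
  have hcD : D.coeff e = T.coeff e := by rw [hT, coeff_topPart, if_pos hmem]
  have hneg : T.coeff e < 0 := by
    refine lt_of_le_of_ne (le_of_not_gt fun hpos => ?_) hce
    obtain ⟨N, hN⟩ := h
    obtain ⟨M, hM⟩ := eventually_eval_pos hDe (hcD ▸ hpos)
    exact (hM _ (le_max_right N M)).not_ge (hN _ (le_max_left N M))
  obtain ⟨M, hM⟩ := eventually_eval_pos (P := -T) (e := e)
    (by rw [degree_neg]; exact degree_le_natDegree.trans_lt (by exact_mod_cast Nat.lt_succ_self _))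
    (by rw [coeff_neg]; linarith)
  exact ⟨M, fun m hm => by have := hM m hm; rw [eval_neg] at this; linarith⟩

theorem redLE_topPart {P Q : ℚ[X]} (hP : P.degree < ((d + 1 : ℕ) : WithBot ℕ))
    (hQ : Q.degree < ((d + 1 : ℕ) : WithBot ℕ)) (h : RedLE d P Q) : RedLE d (topPart ℓ d P) (topPart ℓ d Q) := by
  obtain ⟨N, hN⟩ := h
  obtain ⟨M, hM⟩ := topPart_nonpos (ℓ := ℓ) (D := alpha d Q • P - alpha d P • Q)
    ((degree_sub_le _ _).trans_lt (max_lt ((degree_smul_le _ _).trans_lt hP) ((degree_smul_le _ _).trans_lt hQ)))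
    ⟨N, fun m hm => by rw [eval_sub]; linarith [hN m hm]⟩
  refine ⟨M, fun m hm => ?_⟩
  have := hM m hm
  rw [topPart_sub, topPart_smul, topPart_smul, eval_sub] at this
  rw [alpha_topPart, alpha_topPart]
  linarith

theorem coeff_le_of_redLE (hd : 1 ≤ d) {P Q : ℚ[X]} (hP : P.degree < ((d + 1 : ℕ) : WithBot ℕ))
    (hQ : Q.degree < ((d + 1 : ℕ) : WithBot ℕ)) (h : RedLE d P Q) :
    alpha d Q * alpha (d - 1) P ≤ alpha d P * alpha (d - 1) Q := by
  obtain ⟨N, hN⟩ := h
  set D := alpha d Q • P - alpha d P • Q with hD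
  have hDd : D.degree < ((d - 1 + 1 : ℕ) : WithBot ℕ) := by
    rw [Nat.sub_add_cancel hd]
    refine (degree_lt_iff_coeff_zero _ _).2 fun n hn => ?_
    rcases eq_or_lt_of_le hn with rfl | hlt
    · simp only [hD, coeff_sub, coeff_smul, smul_eq_mul, alpha]; ring
    · rw [hD, coeff_sub, coeff_smul, coeff_smul, coeff_eq_zero_of_degree_lt (hP.trans_le (by exact_mod_cast hlt)),
        coeff_eq_zero_of_degree_lt (hQ.trans_le (by exact_mod_cast hlt)), smul_zero, smul_zero, sub_zero]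
  have hle : D.coeff (d - 1) ≤ 0 := le_of_not_gt fun hpos => by
    obtain ⟨M, hM⟩ := eventually_eval_pos hDd hpos
    have h1 := hM _ (le_max_right N M)
    have h2 := hN _ (le_max_left N M)
    rw [hD, eval_sub] at h1
    linarith
  rw [hD, coeff_sub, coeff_smul, coeff_smul, smul_eq_mul, smul_eq_mul] at hle
  simp only [alpha] at hle ⊢
  nlinarith [hle, (Nat.cast_nonneg ((d - 1).factorial) : (0 : ℚ) ≤ _)]

theorem hatSlope_le_of_redLE (hd : 1 ≤ d) {P Q : ℚ[X]} (hP : P.degree < ((d + 1 : ℕ) : WithBot ℕ))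
    (hQ : Q.degree < ((d + 1 : ℕ) : WithBot ℕ)) (hαP : 0 < alpha d P) (hαQ : 0 < alpha d Q)
    (h : RedLE d P Q) : hatSlope d P ≤ hatSlope d Q := by
  rw [hatSlope, hatSlope, div_le_div_iff₀ hαP hαQ]
  linarith [coeff_le_of_redLE hd hP hQ h]

theorem redEq_of_redLE {P Q : ℚ[X]} (h : RedLE d P Q) (h' : RedLE d Q P) : RedEq d P Q := by
  obtain ⟨N, hN⟩ := h
  obtain ⟨M, hM⟩ := h'
  refine eq_of_infinite_eval_eq _ _ (Set.Infinite.mono ?_
    (Set.infinite_range_of_injective fun a b hab => Nat.add_left_cancel (n := max N M) (Nat.cast_injective (R := ℚ) hab)))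
  rintro _ ⟨m, rfl⟩
  exact le_antisymm (hN _ ((le_max_left N M).trans (Nat.le_add_right _ _)))
    (hM _ ((le_max_right N M).trans (Nat.le_add_right _ _)))

/-! ### Modules -/

variable {X : Scheme.{u}} {k : Type u} [Field k] [X.Over (Spec (CommRingCat.of k))]
  [IsProper (X ↘ Spec (CommRingCat.of k))] {L : X.Modules}

include k in
theorem exists_dimLT (S : Set X) : ∃ n, DimLT S n := by
  haveI := Euler.isNoetherian_of_proper (X := X) k
  have hfin := TopologicalSpace.NoetherianSpace.finite_irreducibleComponents (α := X)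
  choose n hn _ using fun C : irreducibleComponents X =>
    Dim.exists_nat_dim_irreducible (X ↘ Spec (CommRingCat.of k))
      (isClosed_of_mem_irreducibleComponents C.1 C.2) C.2.1
  haveI := hfin.to_subtype
  obtain ⟨M, hM⟩ := (Set.finite_range n).bddAbove
  refine ⟨M + 1, fun l _ => ?_⟩
  obtain ⟨C, hC, hlC⟩ := exists_mem_irreducibleComponents_subset_of_isIrreducible ({l.last} : Set X)
    isIrreducible_singleton
  exact (Snapper.dimLT_of_dim_le (hn ⟨C, hC⟩).le l fun i =>
    ((l.monotone (Fin.le_last i) : l.last ⤳ l i).mem_closed (isClosed_of_mem_irreducibleComponents C hC)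
      (hlC rfl))).trans_le (Nat.succ_le_succ (hM ⟨⟨C, hC⟩, rfl⟩))

theorem exists_quotient_poly {F E : X.Modules} (hL : CohB1.IsAmple L) (hF : Coh.IsCoh F) (hE : Coh.IsCoh E)
    (ι : F ⟶ E) [Mono ι] {pF pE : ℚ[X]} (hpF : ShStab.IsHilbPoly k X L F pF)
    (hpE : ShStab.IsHilbPoly k X L E pE) :
    Coh.IsCoh (cokernel ι) ∧ CohB1.support (cokernel ι) ⊆ CohB1.support E ∧
      ∃ pC : ℚ[X], ShStab.IsHilbPoly k X L (cokernel ι) pC ∧ pE = pF + pC := by
  have hC := QCoh.isCoh_cokernel ι hF hE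
  let S := ShortComplex.mk ι (cokernel.π ι) (cokernel.condition ι)
  have hS : S.ShortExact := ShortComplex.ShortExact.mk'
    (ShortComplex.exact_of_g_is_cokernel S (cokernelIsCokernel ι)) inferInstance inferInstance
  obtain ⟨n, hn⟩ := exists_dimLT (k := k) (CohB1.support (cokernel ι))
  obtain ⟨pC, hpC⟩ := exists_isHilbPoly (k := k) hL hC hn
  exact ⟨hC, QCoh.support_subset_of_epi (cokernel.π ι), pC, hpC, eq_add_of_shortExact hL.1 hS hF hE hC hpF hpE hpC⟩

theorem dimLT_of_alpha_eq_zero {F : X.Modules} (hL : CohB1.IsAmple L) (hF : Coh.IsCoh F)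
    (hd : DimLT (CohB1.support F) (d + 1)) {P : ℚ[X]} (hP : ShStab.IsHilbPoly k X L F P)
    (h : alpha d P = 0) : DimLT (CohB1.support F) d := by
  by_contra hn
  exact (alpha_pos hL hF hd hn hP).ne' h

theorem isZero_of_alpha_eq_zero {E F : X.Modules} (hL : CohB1.IsAmple L) (hE : ShStab.IsPure X E d) (ι : F ⟶ E)
    [Mono ι] (hF : Coh.IsCoh F) {P : ℚ[X]} (hP : ShStab.IsHilbPoly k X L F P) (h : alpha d P = 0) :
    IsZero F := by
  by_contra hz
  exact (alpha_pos_of_pure hL hE ι hF hz hP).ne' h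

/-- A full rank proper submodule has strictly smaller reduced polynomial. -/
theorem redLT_of_alpha_eq {F E : X.Modules} (hL : CohB1.IsAmple L) (hF : Coh.IsCoh F) (hE : Coh.IsCoh E)
    (hd : DimLT (CohB1.support E) (d + 1)) (ι : F ⟶ E) [Mono ι] (hni : ¬ IsIso ι) {pF pE : ℚ[X]}
    (hpF : ShStab.IsHilbPoly k X L F pF) (hpE : ShStab.IsHilbPoly k X L E pE)
    (hα : alpha d pF = alpha d pE) (hpos : 0 < alpha d pE) : RedLT d pF pE := by
  obtain ⟨hC, hsub, pC, hpC, e⟩ := exists_quotient_poly hL hF hE ι hpF hpE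
  have hz : ¬ IsZero (cokernel ι) := fun hz => hni (by
    haveI := Preadditive.epi_of_cokernel_zero (f := ι) (hz.eq_zero_of_tgt _)
    exact isIso_of_mono_of_epi ι)
  obtain ⟨N, hN⟩ := eval_pos hL hC hz (hd.mono hsub) hpC
  refine ⟨N, fun m hm => ?_⟩
  simp only [hα, eval_smul, smul_eq_mul]
  refine mul_lt_mul_of_pos_left ?_ hpos
  rw [e, eval_add]
  linarith [hN m hm]

theorem alpha_le_of_mono {F E : X.Modules} (hL : CohB1.IsAmple L) (hF : Coh.IsCoh F) (hE : Coh.IsCoh E)
    (hd : DimLT (CohB1.support E) (d + 1)) (ι : F ⟶ E) [Mono ι] {pF pE : ℚ[X]}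
    (hpF : ShStab.IsHilbPoly k X L F pF) (hpE : ShStab.IsHilbPoly k X L E pE) : alpha d pF ≤ alpha d pE := by
  obtain ⟨hC, hsub, pC, hpC, e⟩ := exists_quotient_poly hL hF hE ι hpF hpE
  rw [e, alpha_add]
  linarith [alpha_nonneg hL hC (hd.mono hsub) hpC]

theorem alpha_pred_le_of_alpha_eq {F E : X.Modules} (hd' : 1 ≤ d) (hL : CohB1.IsAmple L) (hF : Coh.IsCoh F)
    (hE : Coh.IsCoh E) (hd : DimLT (CohB1.support E) (d + 1)) (ι : F ⟶ E) [Mono ι] {pF pE : ℚ[X]}
    (hpF : ShStab.IsHilbPoly k X L F pF) (hpE : ShStab.IsHilbPoly k X L E pE)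
    (hα : alpha d pF = alpha d pE) : alpha (d - 1) pF ≤ alpha (d - 1) pE := by
  obtain ⟨hC, hsub, pC, hpC, e⟩ := exists_quotient_poly hL hF hE ι hpF hpE
  rw [e, alpha_add] at hα ⊢
  have h := dimLT_of_alpha_eq_zero hL hC (hd.mono hsub) hpC (left_eq_add.1 hα)
  have := alpha_nonneg (d := d - 1) hL hC (by rwa [Nat.sub_add_cancel hd']) hpC
  linarith

end GrothLib.Hilb20
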