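import Groth.Agent.Lib.Hilb20.Slope
import Mathlib.Algebra.Group.ForwardDiff

/-!
# Polynomials ordered by eventual values; integrality of multiplicities
-/

set_option autoImplicit false
set_option linter.style.haveILetI false

universe u

open CategoryTheory CategoryTheory.Limits AlgebraicGeometry Polynomial
open fwdDiff

noncomputable section

namespace GrothLib.Hilb20

open StabCat (PolyLE PolyLT alpha RedLE RedLT RedEq)

/-- Polynomials ordered by their values at large natural numbers. -/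
def EvPoly : Type := ℚ[X]

namespace EvPoly

instance : AddCommGroup EvPoly := inferInstanceAs (AddCommGroup ℚ[X])

/-- The polynomial. -/
abbrev poly (P : EvPoly) : ℚ[X] := P

theorem polyLE_trans {P Q R : ℚ[X]} (h : PolyLE P Q) (h' : PolyLE Q R) : PolyLE P R := by
  obtain ⟨N, hN⟩ := h
  obtain ⟨M, hM⟩ := h'
  exact ⟨max N M, fun m hm => (hN m (le_of_max_le_left hm)).trans (hM m (le_of_max_le_right hm))⟩

theorem polyLE_antisymm {P Q : ℚ[X]} (h : PolyLE P Q) (h' : PolyLE Q P) : P = Q := by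
  obtain ⟨N, hN⟩ := h
  obtain ⟨M, hM⟩ := h'
  refine eq_of_infinite_eval_eq _ _ (Set.Infinite.mono ?_
    (Set.infinite_range_of_injective fun a b hab => Nat.add_left_cancel (n := max N M) (Nat.cast_injective (R := ℚ) hab)))
  rintro _ ⟨m, rfl⟩
  exact le_antisymm (hN _ ((le_max_left N M).trans (Nat.le_add_right _ _)))
    (hM _ ((le_max_right N M).trans (Nat.le_add_right _ _)))

theorem polyLT_of_not_polyLE {P Q : ℚ[X]} (h : ¬ PolyLE P Q) : PolyLT Q P := by
  by_cases h0 : P - Q = 0
  · exact absurd (sub_eq_zero.1 h0 ▸ polyLE_refl P) h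
  have hdeg : (P - Q).degree < (((P - Q).natDegree + 1 : ℕ) : WithBot ℕ) :=
    degree_le_natDegree.trans_lt (by exact_mod_cast Nat.lt_succ_self _)
  rcases lt_or_gt_of_ne (leadingCoeff_ne_zero.2 h0) with hneg | hpos
  · obtain ⟨N, hN⟩ := eventually_eval_pos (P := -(P - Q)) (by rwa [degree_neg])
      (show 0 < (-(P - Q)).coeff (P - Q).natDegree by rw [coeff_neg]; exact neg_pos.2 hneg)
    exact absurd ⟨N, fun m hm => by have := hN m hm; simp at this; linarith⟩ h
  · obtain ⟨N, hN⟩ := eventually_eval_pos hdeg hpos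
    exact ⟨N, fun m hm => by have := hN m hm; simp at this; linarith⟩

instance : LinearOrder EvPoly where
  le P Q := PolyLE P.poly Q.poly
  le_refl P := polyLE_refl P.poly
  le_trans _ _ _ := polyLE_trans
  le_antisymm _ _ := polyLE_antisymm
  le_total P Q := (em (PolyLE P.poly Q.poly)).imp id fun h => by
    obtain ⟨N, hN⟩ := polyLT_of_not_polyLE h
    exact ⟨N, fun m hm => (hN m hm).le⟩
  toDecidableLE := Classical.decRel _

instance : IsOrderedAddMonoid EvPoly where
  add_le_add_left P Q h R := by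
    obtain ⟨N, hN⟩ := h
    exact ⟨N, fun m hm => by
      show Polynomial.eval _ (P.poly + R.poly) ≤ Polynomial.eval _ (Q.poly + R.poly)
      rw [eval_add, eval_add]; linarith [hN m hm]⟩

theorem le_iff {P Q : EvPoly} : P ≤ Q ↔ PolyLE P.poly Q.poly := Iff.rfl

theorem eq_iff {P Q : EvPoly} : P = Q ↔ P.poly = Q.poly := Iff.rfl

theorem lt_iff {P Q : EvPoly} : P < Q ↔ PolyLT P.poly Q.poly := by
  rw [← not_le, le_iff]
  refine ⟨polyLT_of_not_polyLE, fun ⟨N, hN⟩ ⟨M, hM⟩ => ?_⟩
  exact (hN _ (le_max_left N M)).not_ge (hM _ (le_max_right N M))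

theorem zsmul_poly (n : ℤ) (P : EvPoly) : (n • P).poly = (n : ℚ) • P.poly := by
  show n • P.poly = (n : ℚ) • P.poly
  rw [Int.cast_smul_eq_zsmul]

end EvPoly

variable {X : Scheme.{u}} {k : Type u} [Field k] [X.Over (Spec (CommRingCat.of k))]
  [IsProper (X ↘ Spec (CommRingCat.of k))] {L : X.Modules}

/-- Multiplicities are integers. -/
theorem exists_int_alpha {E : X.Modules} {d : ℕ} {P : ℚ[X]} (hP : ShStab.IsHilbPoly k X L E P)
    (hd : P.degree < ((d + 1 : ℕ) : WithBot ℕ)) : ∃ n : ℤ, (n : ℚ) = alpha d P := by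
  let S : ℤ := ∑ i ∈ Finset.range (d + 1), ((-1 : ℤ) ^ (d - i) * d.choose i) * Curv2.euler k X (ShStab.twist X L E i)
  have hS : (S : ℚ) = (fwdDiff (1 : ℚ))^[d] P.eval 0 := by
    rw [fwdDiff_iter_eq_sum_shift]
    simp only [S, Int.cast_sum, Int.cast_mul, zsmul_eq_mul, nsmul_one, zero_add]
    exact Finset.sum_congr rfl fun i _ => by rw [hP i]
  by_cases h : P.natDegree = d
  · refine ⟨S, ?_⟩
    rw [hS, ← h, P.fwdDiff_iter_degree_eq_factorial, alpha, leadingCoeff]
    simp [mul_comm]
  · refine ⟨0, ?_⟩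
    have : P.coeff d = 0 := by
      rcases eq_or_ne P 0 with rfl | h0
      · simp
      refine coeff_eq_zero_of_natDegree_lt ?_
      have := (natDegree_lt_iff_degree_lt h0).2 hd
      omega
    simp [alpha, this]

end GrothLib.Hilb20
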