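import Groth.Agent.Lib.Hilb20.Morph
import Groth.Agent.Lib.Hilb20.Saturation
import Groth.Agent.Lib.Hilb20.EvPoly

/-!
# Kernels and cokernels of maps between semistable modules with the same reduced polynomial
-/

set_option autoImplicit false
set_option linter.style.haveILetI false
set_option linter.unusedSectionVars false
set_option maxHeartbeats 1000000

universe u

open CategoryTheory CategoryTheory.Limits AlgebraicGeometry Polynomial

noncomputable section

namespace GrothLib.Hilb20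

open StabCat (alpha RedLE RedLT RedEq PolyLE)
open GrothLib.Snapper (DimLT)

variable {X : Scheme.{u}} {k : Type u} [Field k] [X.Over (Spec (CommRingCat.of k))]
  [IsProper (X ↘ Spec (CommRingCat.of k))] {L : X.Modules} {d : ℕ}

theorem redEq_trans {P Q R : ℚ[X]} (hQ : alpha d Q ≠ 0) (h : RedEq d P Q) (h' : RedEq d Q R) : RedEq d P R := by
  unfold StabCat.RedEq at *
  have : alpha d Q • (alpha d R • P) = alpha d Q • (alpha d P • R) := by
    rw [smul_comm, h, smul_comm, h', smul_comm]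
  exact smul_right_injective _ hQ this

theorem redEq_of_redLE_redLE {P Q : ℚ[X]} (h : RedLE d P Q) (h' : RedLE d Q P) : RedEq d P Q :=
  EvPoly.polyLE_antisymm h h'

theorem redEq_sub {P Q : ℚ[X]} (h : RedEq d P Q) : RedEq d (Q - P) Q := by
  unfold StabCat.RedEq at *
  rw [alpha_sub, sub_smul, smul_sub, h]

/-- The image of a nonzero map between semistable modules with the same reduced polynomial. -/
theorem redEq_image {E F : X.Modules} (hL : CohB1.IsAmple L) (hE : ShStab.IsSemistable k X L E d)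
    (hF : ShStab.IsSemistable k X L F d) {f : E ⟶ F} (hf : f ≠ 0) {pE pF pI : ℚ[X]}
    (hpE : ShStab.IsHilbPoly k X L E pE) (hpF : ShStab.IsHilbPoly k X L F pF) (hred : RedEq d pE pF)
    (hpI : ShStab.IsHilbPoly k X L (Abelian.image f) pI) : RedEq d pI pE :=
  redEq_of_redLE_redLE
    (redLE_trans (alpha_pos_of_pure hL hF.2.2.1 (Abelian.image.ι f) (isCoh_image (k := k) f hE.1 hF.1)
        (image_not_isZero hf) hpI).le
      (alpha_pos_self hL hF.1 hF.2.1 hF.2.2.1 hpF) (alpha_pos_self hL hE.1 hE.2.1 hE.2.2.1 hpE).le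
      (redLE_image_tgt hL hE.1 hF hf hpI hpF) (redLE_of_redEq (redEq_symm hred)))
    (redLE_image_src hL hE hF.1 hf hpE hpI)

theorem isSemistable_kernel {E F : X.Modules} (hL : CohB1.IsAmple L) (hE : ShStab.IsSemistable k X L E d)
    (f : E ⟶ F) (hF : Coh.IsCoh F) (h0 : ¬ IsZero (kernel f)) {pE : ℚ[X]} (hpE : ShStab.IsHilbPoly k X L E pE)
    (hred : ∀ pK, ShStab.IsHilbPoly k X L (kernel f) pK → RedEq d pK pE) :
    ShStab.IsSemistable k X L (kernel f) d := by
  haveI := Euler.isNoetherian_of_proper (X := X) k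
  have hK := QCoh.isCoh_kernel f hE.1 hF
  refine ⟨hK, h0, fun G κ hκ hG hG0 => hE.2.2.1 G (κ ≫ kernel.ι f) (haveI := hκ; mono_comp _ _) hG hG0,
    fun G κ hκ hG hG0 hni pG pK hpG hpK => ?_⟩
  haveI := hκ
  have hni' : ¬ IsIso (κ ≫ kernel.ι f) := fun h => hni (by
    haveI := h
    haveI : Epi (kernel.ι f) := epi_of_epi κ (kernel.ι f)
    haveI := isIso_of_mono_of_epi (kernel.ι f)
    exact IsIso.of_isIso_comp_right κ (kernel.ι f))
  exact redLE_trans (alpha_pos_of_pure hL hE.2.2.1 (κ ≫ kernel.ι f) hG hG0 hpG).le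
    (alpha_pos_self hL hE.1 hE.2.1 hE.2.2.1 hpE) (alpha_pos_of_pure hL hE.2.2.1 (kernel.ι f) hK h0 hpK).le
    (hE.2.2.2 G (κ ≫ kernel.ι f) inferInstance hG hG0 hni' pG pE hpG hpE)
    (redLE_of_redEq (redEq_symm (hred pK hpK)))

/-- A nonzero quotient of a semistable module with the same reduced polynomial is semistable. -/
theorem isSemistable_quotient {F Q : X.Modules} (hL : CohB1.IsAmple L) (hF : ShStab.IsSemistable k X L F d)
    (π : F ⟶ Q) [Epi π] (hQ : Coh.IsCoh Q) (h0 : ¬ IsZero Q) {pF pQ : ℚ[X]}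
    (hpF : ShStab.IsHilbPoly k X L F pF) (hpQ : ShStab.IsHilbPoly k X L Q pQ) (hred : RedEq d pQ pF) :
    ShStab.IsSemistable k X L Q d := by
  haveI := Euler.isNoetherian_of_proper (X := X) k
  have hdF := isPure_self_dimLT hF.1 hF.2.2.1
  have hdQ : DimLT (CohB1.support Q) (d + 1) := hdF.mono (QCoh.support_subset_of_epi π)
  have hαF := alpha_pos_self hL hF.1 hF.2.1 hF.2.2.1 hpF
  have hnQ : ¬ DimLT (CohB1.support Q) d := fun h => by
    have e : RedEq d pQ pF := hred
    rw [StabCat.RedEq, alpha_eq_zero hL hQ h hpQ, zero_smul, smul_eq_zero] at e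
    rcases e with e | e
    · exact hαF.ne' e
    · exact h0 (isZero_of_isHilbPoly_zero hL hQ hdQ (e ▸ hpQ))
  have hαQ := alpha_pos hL hQ hdQ hnQ hpQ
  have hdim : topologicalKrullDim (CohB1.support Q) = (d : WithBot ℕ∞) := by
    refine le_antisymm (Snapper.dim_le_of_dimLT (QCoh.isClosed_support_of_isCoh hQ) hdQ) ?_
    simp only [DimLT, not_forall, not_lt] at hnQ
    obtain ⟨l, hl, hle⟩ := hnQ
    exact le_trans (by exact_mod_cast hle) (Snapper.length_le_dim _ l hl)
  have hss : StabCat.IsSS Coh.IsCoh (ShStab.IsHilbPoly k X L) d Q := by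
    intro G κ hκ hG hG0 hni pG pQ' hpG hpQ'
    haveI := hκ
    rw [isHilbPoly_unique hpQ' hpQ]
    obtain ⟨hC, -, pC, hpC, eQ⟩ := exists_quotient_poly hL hG hQ κ hpG hpQ
    have hnπ : ¬ IsIso (π ≫ cokernel.π κ) := fun h => hG0 (by
      haveI := h
      haveI : Mono π := mono_of_mono π (cokernel.π κ)
      haveI := isIso_of_mono_of_epi π
      haveI : IsIso (cokernel.π κ) := IsIso.of_isIso_comp_left π _
      refine (IsZero.iff_id_eq_zero G).2 ?_
      rw [← cancel_mono κ, ← cancel_mono (cokernel.π κ), Category.id_comp, cokernel.condition,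
        Limits.zero_comp, Limits.zero_comp])
    obtain ⟨hM, hM0, pM, hpM, eF⟩ := exists_kernel_poly k hL hF.1 hF.2.2.1 (π ≫ cokernel.π κ) hC hnπ hpF hpC
    have hniM : ¬ IsIso (kernel.ι (π ≫ cokernel.π κ)) := fun h => hni (by
      haveI := h
      have h1 : π ≫ cokernel.π κ = 0 := by
        rw [← cancel_epi (kernel.ι (π ≫ cokernel.π κ)), kernel.condition, Limits.comp_zero]
      have h2 : cokernel.π κ = 0 := by rw [← cancel_epi π, h1, Limits.comp_zero]
      haveI := Preadditive.epi_of_cokernel_zero h2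
      exact isIso_of_mono_of_epi κ)
    obtain ⟨N, hN⟩ := hF.2.2.2 _ (kernel.ι (π ≫ cokernel.π κ)) inferInstance hM hM0 hniM pM pF hpM hpF
    have eM : pM = pF - pQ + pG := by rw [eQ]; linear_combination -eF
    refine ⟨N, fun m hm => ?_⟩
    have h1 := hN m hm
    have h2 := congrArg (Polynomial.eval (m : ℚ)) (hred : alpha d pF • pQ = alpha d pQ • pF)
    simp only [eM, alpha_add, alpha_sub, eval_smul, eval_add, eval_sub, smul_eq_mul] at h1 h2 ⊢
    have h3 : alpha d pF * pG.eval (m : ℚ) ≤ alpha d pG * pF.eval (m : ℚ) := by linarith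
    refine le_of_mul_le_mul_left ?_ hαF
    calc alpha d pF * (alpha d pQ * pG.eval (m : ℚ)) = alpha d pQ * (alpha d pF * pG.eval (m : ℚ)) := by ring
      _ ≤ alpha d pQ * (alpha d pG * pF.eval (m : ℚ)) := mul_le_mul_of_nonneg_left h3 hαQ.le
      _ = alpha d pF * (alpha d pG * pQ.eval (m : ℚ)) := by
        rw [show alpha d pF * (alpha d pG * pQ.eval (m : ℚ)) = alpha d pG * (alpha d pF * pQ.eval (m : ℚ)) by ring, h2]
        ring
  exact ⟨hQ, h0, isPure_of_isSS hL hQ h0 hdim hss, hss⟩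

end GrothLib.Hilb20
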