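import Groth.Agent.Lib.Hilb20.GiesekerRun
import Groth.Agent.Lib.Slope20.LastStep

/-!
# Slope data of truncated Hilbert polynomials
-/

set_option autoImplicit false
set_option linter.style.haveILetI false

universe u

open CategoryTheory CategoryTheory.Limits AlgebraicGeometry Polynomial

noncomputable section

namespace GrothLib.Hilb20

open GrothLib.Snapper (DimLT)
open StabCat (alpha topPart RedLE RedLT RedEq)
open GrothLib.Slope20

variable {X : Scheme.{u}} (k : Type u) [Field k] [X.Over (Spec (CommRingCat.of k))]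
  [IsProper (X ↘ Spec (CommRingCat.of k))] [IsLocallyNoetherian X] {L E : X.Modules} {d : ℕ}

/-- Truncation as a degree function. -/
def topHom (ℓ d : ℕ) : ℚ[X] →+ EvPoly where
  toFun P := topPart ℓ d P
  map_zero' := by
    show topPart ℓ d 0 = 0
    exact Polynomial.ext fun n => by simp [coeff_topPart]
  map_add' P Q := Polynomial.ext fun n => by
    show (topPart ℓ d (P + Q)).coeff n = (topPart ℓ d P + topPart ℓ d Q).coeff n
    simp only [coeff_topPart, coeff_add]
    split_ifs <;> simp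

omit [IsLocallyNoetherian X] in
theorem topHom_nonneg (ℓ : ℕ) (hL : CohB1.IsAmple L) (M : X.Modules) (hM : Coh.IsCoh M)
    (hd : DimLT (CohB1.support M) d) (P : ℚ[X]) (hP : ShStab.IsHilbPoly k X L M P) :
    (0 : EvPoly) ≤ topHom ℓ d P := by
  by_cases hz : IsZero M
  · rw [isHilbPoly_unique hP (isHilbPoly_of_isZero hz), map_zero]
  · obtain ⟨N, hN⟩ := eval_pos hL hM hz hd hP
    have hdeg : (-P).degree < ((d + 1 : ℕ) : WithBot ℕ) := by
      rw [degree_neg]
      exact (degree_lt_of_dimLT hL.1 hM hd hP).trans (by exact_mod_cast Nat.lt_succ_self d)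
    obtain ⟨N', hN'⟩ := topPart_nonpos (ℓ := ℓ) hdeg ⟨N, fun m hm => by rw [eval_neg]; linarith [hN m hm]⟩
    refine ⟨N', fun m hm => ?_⟩
    have h := hN' m hm
    rw [show topPart ℓ d (-P) = -topPart ℓ d P from Polynomial.ext fun n => by
      simp only [coeff_topPart, coeff_neg]; split_ifs <;> simp, eval_neg] at h
    show Polynomial.eval (m : ℚ) (0 : ℚ[X]) ≤ Polynomial.eval (m : ℚ) (topPart ℓ d P)
    rw [eval_zero]; linarith

/-- The slope data of `ℓ`-stability. -/
def ellData (ℓ : ℕ) (hL : CohB1.IsAmple L) (hE : Coh.IsCoh E) (hd : DimLT (CohB1.support E) (d + 1)) :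
    letI := cohSubLattice hE
    SlopeData (CohSub E) EvPoly :=
  slopeData k d hL hE hd (topHom ℓ d) (topHom_nonneg k ℓ hL)

variable (ℓ : ℕ) (hL : CohB1.IsAmple L) (hE : Coh.IsCoh E) (hd : DimLT (CohB1.support E) (d + 1))

theorem cast_r_ell (a b : CohSub E) :
    letI := cohSubLattice hE
    ((ellData k ℓ hL hE hd).r a b : ℚ) = alpha d (hp k L (b.1 : X.Modules) - hp k L (a.1 : X.Modules)) :=
  cast_r k hL hE hd a b

theorem d_ell (a b : CohSub E) :
    letI := cohSubLattice hE
    ((ellData k ℓ hL hE hd).d a b).poly =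
      topPart ℓ d (hp k L (b.1 : X.Modules) - hp k L (a.1 : X.Modules)) :=
  (map_sub (topHom ℓ d) _ _).symm

theorem lt_iff_ell (a b c e : CohSub E) :
    letI := cohSubLattice hE
    (ellData k ℓ hL hE hd).Lt a b c e ↔
      RedLT d (topPart ℓ d (hp k L (b.1 : X.Modules) - hp k L (a.1 : X.Modules)))
        (topPart ℓ d (hp k L (e.1 : X.Modules) - hp k L (c.1 : X.Modules))) := by
  letI := cohSubLattice hE
  show ((ellData k ℓ hL hE hd).r c e • (ellData k ℓ hL hE hd).d a b) <
    (ellData k ℓ hL hE hd).r a b • (ellData k ℓ hL hE hd).d c e ↔ _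
  rw [EvPoly.lt_iff, EvPoly.zsmul_poly, EvPoly.zsmul_poly, cast_r_ell, cast_r_ell, d_ell, d_ell, RedLT,
    alpha_topPart, alpha_topPart]

theorem le_iff_ell (a b c e : CohSub E) :
    letI := cohSubLattice hE
    (ellData k ℓ hL hE hd).Le a b c e ↔
      RedLE d (topPart ℓ d (hp k L (b.1 : X.Modules) - hp k L (a.1 : X.Modules)))
        (topPart ℓ d (hp k L (e.1 : X.Modules) - hp k L (c.1 : X.Modules))) := by
  letI := cohSubLattice hE
  show ((ellData k ℓ hL hE hd).r c e • (ellData k ℓ hL hE hd).d a b) ≤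
    (ellData k ℓ hL hE hd).r a b • (ellData k ℓ hL hE hd).d c e ↔ _
  rw [EvPoly.le_iff, EvPoly.zsmul_poly, EvPoly.zsmul_poly, cast_r_ell, cast_r_ell, d_ell, d_ell, RedLE,
    alpha_topPart, alpha_topPart]

theorem eq'_iff_ell (a b c e : CohSub E) :
    letI := cohSubLattice hE
    (ellData k ℓ hL hE hd).Eq' a b c e ↔
      RedEq d (topPart ℓ d (hp k L (b.1 : X.Modules) - hp k L (a.1 : X.Modules)))
        (topPart ℓ d (hp k L (e.1 : X.Modules) - hp k L (c.1 : X.Modules))) := by
  letI := cohSubLattice hE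
  show ((ellData k ℓ hL hE hd).r c e • (ellData k ℓ hL hE hd).d a b) =
    (ellData k ℓ hL hE hd).r a b • (ellData k ℓ hL hE hd).d c e ↔ _
  rw [EvPoly.eq_iff, EvPoly.zsmul_poly, EvPoly.zsmul_poly, cast_r_ell, cast_r_ell, d_ell, d_ell, RedEq,
    alpha_topPart, alpha_topPart]

theorem ss_ell (a b : CohSub E) (h : a.1 ≤ b.1)
    (hs : ShStab.IsEllSemistable k X L (cokernel (Subobject.ofLE a.1 b.1 h)) d ℓ) :
    letI := cohSubLattice hE
    (ellData k ℓ hL hE hd).SS a b := by
  letI := cohSubLattice hE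
  have hQ := QCoh.isCoh_cokernel (Subobject.ofLE a.1 b.1 h) a.2 b.2
  have hPQ := isHilbPoly_cokernel_ofLE k hL h a.2 b.2
  have hab : a < b := lt_of_le_of_ne h fun hh => hs.2.1 (by
    obtain ⟨n, hn⟩ := exists_dimLT (k := k) (CohB1.support (cokernel (Subobject.ofLE a.1 b.1 h)))
    refine isZero_of_isHilbPoly_zero (k := k) hL hQ hn ?_
    have hh' : hp k L (b.1 : X.Modules) = hp k L (a.1 : X.Modules) :=
      congrArg (fun S : CohSub E => hp k L (S.1 : X.Modules)) hh.symm
    rwa [hh', sub_self] at hPQ)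
  have hpu : (ellData k ℓ hL hE hd).Pure a b := (pure_iff k hL hE hd a b h).2 hs.2.2.1
  refine ⟨hab, hpu, fun c hac hcb => ?_⟩
  rcases eq_or_lt_of_le hac with rfl | hac
  · exact SlopeData.le_self _ _ _ _
  have hr := SlopeData.Pure.r_pos _ hpu hac hcb
  have hrab := SlopeData.Pure.r_pos _ hpu hab le_rfl
  rcases eq_or_lt_of_le ((ellData k ℓ hL hE hd).R_mono c b hcb) with hR | hR
  · have h1 : (ellData k ℓ hL hE hd).r a c = (ellData k ℓ hL hE hd).r a b := by
      simp only [SlopeData.r]; omega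
    have h2 : (ellData k ℓ hL hE hd).d a c ≤ (ellData k ℓ hL hE hd).d a b :=
      sub_le_sub_right ((ellData k ℓ hL hE hd).V_mono c b hcb hR) _
    show _ ≤ _
    rw [h1]
    exact Slope20.zle hrab.le h2
  obtain ⟨G, κ, hκ, hG, he⟩ := exists_sub k hL h hac.le hcb a.2 b.2 c.2
  rw [le_iff_ell k ℓ hL hE hd a c a b, ← he]
  refine hs.2.2.2 G κ hκ hG _ _ (isHilbPoly_hp k hL hG) hPQ ?_ ?_
  · rw [he, ← cast_r_ell k ℓ hL hE hd a c]; exact_mod_cast hr
  · rw [he, ← cast_r_ell k ℓ hL hE hd a c, ← cast_r_ell k ℓ hL hE hd a b]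
    exact_mod_cast (by simp only [SlopeData.r]; omega :
      (ellData k ℓ hL hE hd).r a c < (ellData k ℓ hL hE hd).r a b)

end GrothLib.Hilb20
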