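import Groth.Agent.Lib.Hilb20.AbCat
import Groth.Agent.Lib.Hilb20.GiesekerRun
import Groth.Agent.Lib.K0Sub.Pullback
import Groth.Agent.Lib.ASBun21.Summands
import Groth.Agent.Lib.QCoh.SupportPullback
import Groth.Agent.Lib.Dim.QuasiFinite

/-!
# Fibres of filtrations with locally free graded pieces; maps zero at a point
-/

set_option autoImplicit false
set_option linter.style.haveILetI false
set_option linter.unusedSectionVars false
set_option maxHeartbeats 1000000
set_option backward.isDefEq.respectTransparency.types false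

universe u

open CategoryTheory CategoryTheory.Limits AlgebraicGeometry Polynomial

noncomputable section

namespace GrothLib.Hilb20

open StabCat (alpha RedLE RedLT RedEq)

variable {X : Scheme.{u}}

theorem locFree_factor [IsLocallyNoetherian X] {E : X.Modules} (s : LTSeries (Subobject E)) (U : X.Opens)
    (h : FlatMod.IsFinLocFree ((StabCat.grObj s).restrict U.ι)) (i : Fin s.length) :
    FlatMod.IsFinLocFree ((StabCat.factor s i).restrict U.ι) := by
  classical
  let f := fun j : Fin s.length => StabCat.factor s j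
  let R := Scheme.Modules.restrictFunctor U.ι
  haveI : IsLocallyNoetherian U.toScheme := isLocallyNoetherian_of_isOpenImmersion U.ι
  let q : StabCat.grObj s ⟶ f i := Sigma.desc fun j => if h : j = i then eqToHom (congrArg f h) else 0
  have hq : Sigma.ι f i ≫ q = 𝟙 (f i) := by simp [q, f]
  exact ASBun21.isFinLocFree_of_retract (R.map (Sigma.ι f i)) (R.map q)
    ((R.map_comp _ _).symm.trans ((congrArg R.map hq).trans (R.map_id _))) h

theorem mono_pullback_of_locFree_quot {Z : Scheme.{u}} (ξ : Z ⟶ X) (U : X.Opens)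
    (hξ : Set.range ξ.base ⊆ U) {A B : X.Modules} (m : A ⟶ B) [Mono m]
    (hq : FlatMod.IsFinLocFree ((cokernel m).restrict U.ι)) : Mono ((Scheme.Modules.pullback ξ).map m) := by
  have hr : Set.range ξ.base ⊆ Set.range U.ι.base := by rw [Scheme.Opens.range_ι]; exact hξ
  let ξ' := IsOpenImmersion.lift U.ι ξ hr
  let R := Scheme.Modules.restrictFunctor U.ι
  haveI : (Scheme.Modules.pullback ξ').Additive :=
    (Scheme.Modules.pullbackPushforwardAdjunction ξ').left_adjoint_additive
  let S := ShortComplex.mk m (cokernel.π m) (cokernel.condition m)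
  have hS : S.ShortExact := ShortComplex.ShortExact.mk'
    (ShortComplex.exact_of_g_is_cokernel S (cokernelIsCokernel m)) inferInstance inferInstance
  haveI : Mono (S.map R).f := inferInstanceAs (Mono (R.map m))
  haveI : Epi (S.map R).g := inferInstanceAs (Epi (R.map (cokernel.π m)))
  have hSR : (S.map R).ShortExact := ShortComplex.ShortExact.mk' (hS.exact.map R) inferInstance inferInstance
  have h1 := (K0Sub.shortExact_map_pullback ξ' (S.map R) hSR hq).mono_f
  let θ : Scheme.Modules.pullback ξ ≅ R ⋙ Scheme.Modules.pullback ξ' :=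
    eqToIso (congrArg Scheme.Modules.pullback (IsOpenImmersion.lift_fac U.ι ξ hr).symm) ≪≫
      (Scheme.Modules.pullbackComp ξ' U.ι).symm ≪≫
      Functor.isoWhiskerRight (Scheme.Modules.restrictFunctorIsoPullback U.ι).symm _
  haveI : Mono ((R ⋙ Scheme.Modules.pullback ξ').map m) := h1
  have e : (Scheme.Modules.pullback ξ).map m =
      θ.hom.app A ≫ (R ⋙ Scheme.Modules.pullback ξ').map m ≫ θ.inv.app B := by
    rw [θ.inv.naturality, ← Category.assoc, Iso.hom_inv_id_app, Category.id_comp]
  rw [e]
  infer_instance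

/-- The members of a filtration with locally free factors have the fibres as subspaces. -/
theorem mono_pullback_arrow [IsLocallyNoetherian X] {E : X.Modules} {Z : Scheme.{u}} (ξ : Z ⟶ X) (U : X.Opens)
    (hξ : Set.range ξ.base ⊆ U) (s : LTSeries (Subobject E)) (hlast : s.last = ⊤)
    (hgr : FlatMod.IsFinLocFree ((StabCat.grObj s).restrict U.ι)) (i : Fin (s.length + 1)) :
    Mono ((Scheme.Modules.pullback ξ).map (s i).arrow) := by
  induction i using Fin.reverseInduction with
  | last =>
    rw [show s (Fin.last _) = ⊤ from hlast]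
    infer_instance
  | cast i ih =>
    haveI := ih
    haveI := Slope20.mono_ofLE (le_of_lt (s.step i))
    haveI := mono_pullback_of_locFree_quot ξ U hξ (Subobject.ofLE _ _ (le_of_lt (s.step i)))
      (locFree_factor s U hgr i)
    rw [← Subobject.ofLE_arrow (le_of_lt (s.step i)), Functor.map_comp]
    exact mono_comp _ _

theorem pullback_epi {Z : Scheme.{u}} (ξ : Z ⟶ X) {A B : X.Modules} (p : A ⟶ B) [Epi p] :
    Epi ((Scheme.Modules.pullback ξ).map p) :=
  haveI : (Scheme.Modules.pullback ξ).IsLeftAdjoint :=
    (Scheme.Modules.pullbackPushforwardAdjunction ξ).isLeftAdjoint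
  inferInstance

variable {k : Type u} [Field k] [X.Over (Spec (CommRingCat.of k))]
  [IsProper (X ↘ Spec (CommRingCat.of k))] {L : X.Modules} {d : ℕ}

theorem support_eq_univ_of_pure [IrreducibleSpace X] (hX : topologicalKrullDim X = (d : WithBot ℕ∞))
    {A : X.Modules} (hA : Coh.IsCoh A) (h0 : ¬ IsZero A) (hp : ShStab.IsPure X A d) :
    CohB1.support A = Set.univ := by
  have h := hp A (𝟙 A) inferInstance hA h0
  exact Dim.eq_univ_of_dim_le (QCoh.isClosed_support_of_isCoh hA) (hX.trans h.symm).le h

/-- A stable module maps to a filtered module by a map zero at a point only if the map is zero. -/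
theorem eq_zero_of_stable_src [IsLocallyNoetherian X] [IrreducibleSpace X]
    (hX : topologicalKrullDim X = (d : WithBot ℕ∞)) (hL : CohB1.IsAmple L) {Z : Scheme.{u}} [Nonempty Z]
    (ξ : Z ⟶ X) (U : X.Opens) (hξ : Set.range ξ.base ⊆ U) {F : X.Modules} (sF : LTSeries (Subobject F))
    (hsF : ShStab.IsJHFiltration k X L F d sF) (hgr : FlatMod.IsFinLocFree ((StabCat.grObj sF).restrict U.ι))
    {A : X.Modules} (hA : ShStab.IsStable k X L A d) {pA pF : ℚ[X]} (hpA : ShStab.IsHilbPoly k X L A pA)
    (hpF : ShStab.IsHilbPoly k X L F pF) (hαF : alpha d pF ≠ 0) (hred : RedEq d pA pF)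
    (h : A ⟶ F) (hh : (Scheme.Modules.pullback ξ).map h = 0) : h = 0 := by
  haveI : (Scheme.Modules.pullback ξ).Additive :=
    (Scheme.Modules.pullbackPushforwardAdjunction ξ).left_adjoint_additive
  have key : ∀ j : Fin (sF.length + 1), ∃ h' : A ⟶ (sF j : X.Modules), h' ≫ (sF j).arrow = h := by
    intro j
    induction j using Fin.reverseInduction with
    | last =>
      have ht : sF (Fin.last _) = ⊤ := hsF.2.1
      haveI : IsIso (sF (Fin.last _)).arrow := by rw [ht]; infer_instance
      exact ⟨h ≫ inv (sF (Fin.last _)).arrow, by simp⟩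
    | cast j ih =>
      obtain ⟨h', hh'⟩ := ih
      haveI := mono_pullback_arrow ξ U hξ sF hsF.2.1 hgr j.succ
      have hh0 : (Scheme.Modules.pullback ξ).map h' = 0 := by
        rw [← cancel_mono ((Scheme.Modules.pullback ξ).map (sF j.succ).arrow), ← Functor.map_comp, hh', hh,
          Limits.zero_comp]
      let m := Subobject.ofLE _ _ (le_of_lt (sF.step j))
      haveI : Mono m := Slope20.mono_ofLE (le_of_lt (sF.step j))
      obtain ⟨hB, hBred⟩ := hsF.2.2 j
      have hq : h' ≫ cokernel.π m = 0 := by
        by_contra hne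
        obtain ⟨pB, hpB⟩ := exists_isHilbPoly_pure (k := k) hL hB.1 hB.2.2.1
        have hAB : RedEq d pA pB := redEq_trans hαF hred (redEq_symm (hBred pB pF hpB hpF))
        haveI : Mono (h' ≫ cokernel.π m) := mono_of_stable hL hA (isStable_isSemistable hB) hne hpA hpB hAB
        haveI : Epi (h' ≫ cokernel.π m) := epi_of_stable hL (isStable_isSemistable hA) hB hne hpA hpB hAB
        haveI := isIso_of_mono_of_epi (h' ≫ cokernel.π m)
        have hz : IsZero ((Scheme.Modules.pullback ξ).obj A) := by
          have h3 : (Scheme.Modules.pullback ξ).map (h' ≫ cokernel.π m) = 0 := by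
            rw [Functor.map_comp, hh0, Limits.zero_comp]
          exact IsZero.of_mono_eq_zero _ h3
        have h4 := support_eq_empty_of_isZero hz
        rw [QCoh.support_pullback ξ A hA.1, support_eq_univ_of_pure hX hA.1 hA.2.1 hA.2.2.1,
          Set.preimage_univ] at h4
        exact (Set.univ_nonempty (α := Z)).ne_empty h4
      refine ⟨Abelian.monoLift m h' hq, ?_⟩
      rw [← Subobject.ofLE_arrow (le_of_lt (sF.step j)), ← Category.assoc, Abelian.monoLift_comp, hh']
  obtain ⟨h', hh'⟩ := key 0
  have h0 : (sF 0 : Subobject F) = ⊥ := hsF.1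
  rw [← hh', show (sF 0).arrow = 0 from by rw [h0]; exact Subobject.bot_arrow, Limits.comp_zero]

/-- A map between filtered modules which is zero at a point is zero. -/
theorem eq_zero_of_pullback_eq_zero [IsLocallyNoetherian X] [IrreducibleSpace X]
    (hX : topologicalKrullDim X = (d : WithBot ℕ∞)) (hL : CohB1.IsAmple L) {Z : Scheme.{u}} [Nonempty Z]
    (ξ : Z ⟶ X) (U : X.Opens) (hξ : Set.range ξ.base ⊆ U) {E F : X.Modules}
    (sE : LTSeries (Subobject E)) (hsE : ShStab.IsJHFiltration k X L E d sE)
    (sF : LTSeries (Subobject F)) (hsF : ShStab.IsJHFiltration k X L F d sF)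
    (hgrF : FlatMod.IsFinLocFree ((StabCat.grObj sF).restrict U.ι))
    {pE pF : ℚ[X]} (hpE : ShStab.IsHilbPoly k X L E pE) (hpF : ShStab.IsHilbPoly k X L F pF)
    (hαE : alpha d pE ≠ 0) (hαF : alpha d pF ≠ 0) (hred : RedEq d pE pF)
    (f : E ⟶ F) (hf : (Scheme.Modules.pullback ξ).map f = 0) : f = 0 := by
  haveI : (Scheme.Modules.pullback ξ).Additive :=
    (Scheme.Modules.pullbackPushforwardAdjunction ξ).left_adjoint_additive
  have key : ∀ i : Fin (sE.length + 1), (sE i).arrow ≫ f = 0 := by
    intro i
    induction i using Fin.induction with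
    | zero => rw [show sE 0 = ⊥ from hsE.1, Subobject.bot_arrow, Limits.zero_comp]
    | succ i ih =>
      let m := Subobject.ofLE _ _ (le_of_lt (sE.step i))
      have hm : m ≫ ((sE i.succ).arrow ≫ f) = 0 := by rw [Subobject.ofLE_arrow_assoc]; exact ih
      let h := cokernel.desc m ((sE i.succ).arrow ≫ f) hm
      obtain ⟨hA, hAred⟩ := hsE.2.2 i
      obtain ⟨pA, hpA⟩ := exists_isHilbPoly_pure (k := k) hL hA.1 hA.2.2.1
      have hh : (Scheme.Modules.pullback ξ).map h = 0 := by
        haveI := pullback_epi ξ (cokernel.π m)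
        rw [← cancel_epi ((Scheme.Modules.pullback ξ).map (cokernel.π m)), ← Functor.map_comp, cokernel.π_desc,
          Functor.map_comp, hf, Limits.comp_zero, Limits.comp_zero]
      have h0 : h = 0 := eq_zero_of_stable_src hX hL ξ U hξ sF hsF hgrF hA hpA hpF hαF
        (redEq_trans hαE (hAred pA pE hpA hpE) hred) h hh
      rw [← cokernel.π_desc m _ hm]
      show cokernel.π m ≫ h = 0
      rw [h0, Limits.comp_zero]
  have h := key (Fin.last _)
  haveI : IsIso (sE (Fin.last _)).arrow := by rw [show sE (Fin.last _) = ⊤ from hsE.2.1]; infer_instance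
  rwa [← cancel_epi (sE (Fin.last _)).arrow, Limits.comp_zero]

end GrothLib.Hilb20
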