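import Groth.Agent.Lib.Hilb20.Subquot

/-!
# Gieseker slope data and semistability
-/

set_option autoImplicit false
set_option linter.style.haveILetI false

universe u

open CategoryTheory CategoryTheory.Limits AlgebraicGeometry Polynomial

noncomputable section

namespace GrothLib.Hilb20

open GrothLib.Snapper (DimLT)
open StabCat (alpha RedLE RedLT RedEq)
open GrothLib.Slope20

variable {X : Scheme.{u}} (k : Type u) [Field k] [X.Over (Spec (CommRingCat.of k))]
  [IsProper (X ↘ Spec (CommRingCat.of k))] [IsLocallyNoetherian X] {L E : X.Modules} {d : ℕ}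

omit [IsLocallyNoetherian X] in
theorem nonneg_of_isHilbPoly (hL : CohB1.IsAmple L) (M : X.Modules) (hM : Coh.IsCoh M)
    (hd : DimLT (CohB1.support M) d) (P : ℚ[X]) (hP : ShStab.IsHilbPoly k X L M P) :
    (0 : EvPoly) ≤ (P : EvPoly) := by
  by_cases hz : IsZero M
  · rw [isHilbPoly_unique hP (isHilbPoly_of_isZero hz)]
    exact polyLE_refl 0
  · obtain ⟨N, hN⟩ := eval_pos hL hM hz hd hP
    refine ⟨N, fun m hm => ?_⟩
    show Polynomial.eval (m : ℚ) (0 : ℚ[X]) ≤ _
    rw [eval_zero]; exact (hN m hm).le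

/-- The identity as a degree function. -/
def polyHom : ℚ[X] →+ EvPoly where
  toFun P := P
  map_zero' := rfl
  map_add' _ _ := rfl

/-- Gieseker's slope data. -/
def gData (hL : CohB1.IsAmple L) (hE : Coh.IsCoh E) (hd : DimLT (CohB1.support E) (d + 1)) :
    letI := cohSubLattice hE
    SlopeData (CohSub E) EvPoly :=
  slopeData k d hL hE hd polyHom (nonneg_of_isHilbPoly k hL)

variable (hL : CohB1.IsAmple L) (hE : Coh.IsCoh E) (hd : DimLT (CohB1.support E) (d + 1))

theorem cast_R (S : CohSub E) :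
    letI := cohSubLattice hE
    ((gData k hL hE hd).R S : ℚ) = alpha d (hp k L (S.1 : X.Modules)) :=
  cast_mult' k d hL S.2 (dimLT_subobject hd S.1)

theorem cast_r (a b : CohSub E) :
    letI := cohSubLattice hE
    ((gData k hL hE hd).r a b : ℚ) = alpha d (hp k L (b.1 : X.Modules) - hp k L (a.1 : X.Modules)) := by
  letI := cohSubLattice hE
  show (((gData k hL hE hd).R b - (gData k hL hE hd).R a : ℤ) : ℚ) = _
  rw [Int.cast_sub, cast_R, cast_R, alpha_sub]

theorem le_iff_redLE (a b c e : CohSub E) :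
    letI := cohSubLattice hE
    (gData k hL hE hd).Le a b c e ↔
      RedLE d (hp k L (b.1 : X.Modules) - hp k L (a.1 : X.Modules))
        (hp k L (e.1 : X.Modules) - hp k L (c.1 : X.Modules)) := by
  letI := cohSubLattice hE
  show ((gData k hL hE hd).r c e • polyHom (hp k L (b.1 : X.Modules) - hp k L (a.1 : X.Modules))) ≤
    (gData k hL hE hd).r a b • polyHom (hp k L (e.1 : X.Modules) - hp k L (c.1 : X.Modules)) ↔ _
  rw [EvPoly.le_iff, EvPoly.zsmul_poly, EvPoly.zsmul_poly, cast_r, cast_r]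
  rfl

theorem lt_iff_redLT (a b c e : CohSub E) :
    letI := cohSubLattice hE
    (gData k hL hE hd).Lt a b c e ↔
      RedLT d (hp k L (b.1 : X.Modules) - hp k L (a.1 : X.Modules))
        (hp k L (e.1 : X.Modules) - hp k L (c.1 : X.Modules)) := by
  letI := cohSubLattice hE
  show ((gData k hL hE hd).r c e • polyHom (hp k L (b.1 : X.Modules) - hp k L (a.1 : X.Modules))) <
    (gData k hL hE hd).r a b • polyHom (hp k L (e.1 : X.Modules) - hp k L (c.1 : X.Modules)) ↔ _
  rw [EvPoly.lt_iff, EvPoly.zsmul_poly, EvPoly.zsmul_poly, cast_r, cast_r]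
  rfl

theorem eq'_iff_redEq (a b c e : CohSub E) :
    letI := cohSubLattice hE
    (gData k hL hE hd).Eq' a b c e ↔
      RedEq d (hp k L (b.1 : X.Modules) - hp k L (a.1 : X.Modules))
        (hp k L (e.1 : X.Modules) - hp k L (c.1 : X.Modules)) := by
  letI := cohSubLattice hE
  show ((gData k hL hE hd).r c e • polyHom (hp k L (b.1 : X.Modules) - hp k L (a.1 : X.Modules))) =
    (gData k hL hE hd).r a b • polyHom (hp k L (e.1 : X.Modules) - hp k L (c.1 : X.Modules)) ↔ _
  rw [EvPoly.eq_iff, EvPoly.zsmul_poly, EvPoly.zsmul_poly,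
    cast_r, cast_r]
  rfl

theorem strict_mono :
    letI := cohSubLattice hE
    ∀ x y : CohSub E, x < y → (gData k hL hE hd).R x = (gData k hL hE hd).R y →
      (gData k hL hE hd).V x < (gData k hL hE hd).V y := by
  letI := cohSubLattice hE
  intro x y hxy hR
  refine lt_of_le_of_ne ((gData k hL hE hd).V_mono x y hxy.le hR) fun he => hxy.ne ?_
  exact Subtype.ext (eq_of_hp_eq k hL (hxy.le : x.1 ≤ y.1) x.2 y.2 he)

theorem pure_iff (a b : CohSub E) (h : a.1 ≤ b.1) :
    letI := cohSubLattice hE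
    (gData k hL hE hd).Pure a b ↔ ShStab.IsPure X (cokernel (Subobject.ofLE a.1 b.1 h)) d := by
  letI := cohSubLattice hE
  constructor
  · intro hp' G κ hκ hG hG0
    haveI := hκ
    obtain ⟨c, hc, hac, hcb, he⟩ := exists_mid k hL h a.2 b.2 κ hG
    have hdG : DimLT (CohB1.support G) (d + 1) :=
      ((dimLT_subobject hd b.1).mono (QCoh.support_subset_of_epi (cokernel.π (Subobject.ofLE a.1 b.1 h)))).mono
        (QCoh.support_subset_of_mono κ)
    have hne : a.1 ≠ c := fun hh => hG0 (by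
      subst hh
      obtain ⟨n, hn⟩ := exists_dimLT (k := k) (CohB1.support G)
      exact isZero_of_isHilbPoly_zero hL hG hn (left_eq_add.1 he ▸ isHilbPoly_hp k hL hG))
    have hlt : a < (⟨c, hc⟩ : CohSub E) := lt_of_le_of_ne hac fun hh => hne (congrArg Subtype.val hh)
    have h1 : (0 : ℚ) < alpha d (hp k L G) := by
      have h2 := SlopeData.Pure.r_pos _ hp' hlt hcb
      have h3 := cast_r k hL hE hd a ⟨c, hc⟩
      rw [he, add_sub_cancel_left] at h3
      rw [← h3]; exact_mod_cast h2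
    refine le_antisymm (Snapper.dim_le_of_dimLT (QCoh.isClosed_support_of_isCoh hG) hdG) ?_
    have hn : ¬ DimLT (CohB1.support G) d := fun hh =>
      h1.ne' (alpha_eq_zero hL hG hh (isHilbPoly_hp k hL hG))
    simp only [DimLT, not_forall, not_lt] at hn
    obtain ⟨l, hl, hle⟩ := hn
    exact le_trans (by exact_mod_cast hle) (Snapper.length_le_dim _ l hl)
  · intro hp' c hac hcb
    obtain ⟨G, κ, hκ, hG, he⟩ := exists_sub k hL h hac.le hcb a.2 b.2 c.2
    have hG0 : ¬ IsZero G := fun hz => hac.ne (Subtype.ext (eq_of_hp_eq k hL hac.le a.2 c.2 (by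
      rw [hp_eq k hL hG (isHilbPoly_of_isZero hz)] at he
      exact (sub_eq_zero.1 he.symm).symm)))
    have h1 := alpha_pos_of_pure hL hp' κ hG hG0 (isHilbPoly_hp k hL hG)
    rw [he, ← cast_r k hL hE hd a c] at h1
    have h2 : 0 < (gData k hL hE hd).r a c := by exact_mod_cast h1
    simp only [SlopeData.r] at h2
    omega

theorem ss_iff (a b : CohSub E) (h : a.1 ≤ b.1) :
    letI := cohSubLattice hE
    (gData k hL hE hd).SS a b ↔ ShStab.IsSemistable k X L (cokernel (Subobject.ofLE a.1 b.1 h)) d := by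
  letI := cohSubLattice hE
  haveI := Slope20.mono_ofLE h
  have hQ := QCoh.isCoh_cokernel (Subobject.ofLE a.1 b.1 h) a.2 b.2
  have hPQ := isHilbPoly_cokernel_ofLE k hL h a.2 b.2
  constructor
  · intro hs
    refine ⟨hQ, fun hz => hs.lt.ne (Subtype.ext (eq_of_hp_eq k hL h a.2 b.2
      (sub_eq_zero.1 (isHilbPoly_unique hPQ (isHilbPoly_of_isZero hz))).symm)), (pure_iff k hL hE hd a b h).1 hs.pure,
      fun G κ hκ hG hG0 _ pF pE hpF hpE => ?_⟩
    haveI := hκ
    obtain ⟨c, hc, hac, hcb, he⟩ := exists_mid k hL h a.2 b.2 κ hG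
    have := (le_iff_redLE k hL hE hd a ⟨c, hc⟩ a b).1 (hs.le_of ⟨c, hc⟩ hac hcb)
    rwa [he, add_sub_cancel_left, hp_eq k hL hG hpF, ← isHilbPoly_unique hpE hPQ] at this
  · intro hs
    have hab : a < b := lt_of_le_of_ne h fun hh => hs.2.1 (by
      obtain ⟨n, hn⟩ := exists_dimLT (k := k) (CohB1.support (cokernel (Subobject.ofLE a.1 b.1 h)))
      refine isZero_of_isHilbPoly_zero (k := k) hL hQ hn ?_
      have hh' : hp k L (b.1 : X.Modules) = hp k L (a.1 : X.Modules) :=
        congrArg (fun S : CohSub E => hp k L (S.1 : X.Modules)) hh.symm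
      rwa [hh', sub_self] at hPQ)
    refine ⟨hab, (pure_iff k hL hE hd a b h).2 hs.2.2.1, fun c hac hcb => ?_⟩
    rcases eq_or_lt_of_le hac with rfl | hac
    · exact SlopeData.le_self _ _ _ _
    rcases eq_or_lt_of_le hcb with rfl | hcb
    · exact SlopeData.le_refl' _ _ _
    obtain ⟨G, κ, hκ, hG, he⟩ := exists_sub k hL h hac.le hcb.le a.2 b.2 c.2
    rw [le_iff_redLE, ← he]
    refine hs.2.2.2 G κ hκ hG (fun hz => hac.ne (Subtype.ext (eq_of_hp_eq k hL hac.le a.2 c.2 ?_)))
      (fun hi => hcb.ne (Subtype.ext (eq_of_hp_eq k hL hcb.le c.2 b.2 ?_))) _ _ (isHilbPoly_hp k hL hG) hPQ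
    · rw [hp_eq k hL hG (isHilbPoly_of_isZero hz)] at he
      exact (sub_eq_zero.1 he.symm).symm
    · have := isHilbPoly_unique (isHilbPoly_congr (asIso κ) (isHilbPoly_hp k hL hG)) hPQ
      rw [he] at this
      exact sub_left_inj.1 this

set_option maxHeartbeats 800000 in
theorem st_iff (a b : CohSub E) (h : a.1 ≤ b.1) :
    letI := cohSubLattice hE
    (gData k hL hE hd).St a b ↔ ShStab.IsStable k X L (cokernel (Subobject.ofLE a.1 b.1 h)) d := by
  letI := cohSubLattice hE
  have hPQ := isHilbPoly_cokernel_ofLE k hL h a.2 b.2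
  constructor
  · intro hs
    obtain ⟨h1, h2, h3, -⟩ := (ss_iff k hL hE hd a b h).1 hs.toSS
    refine ⟨h1, h2, h3, fun G κ hκ hG hG0 hni pF pE hpF hpE => ?_⟩
    haveI := hκ
    obtain ⟨c, hc, hac, hcb, he⟩ := exists_mid k hL h a.2 b.2 κ hG
    have hne : a.1 ≠ c := by
      intro hh
      obtain ⟨n, hn⟩ := exists_dimLT (k := k) (CohB1.support G)
      subst hh
      rw [left_eq_add] at he
      rw [← hp_eq k hL hG (isHilbPoly_hp k hL hG)] at he
      exact hG0 (isZero_of_isHilbPoly_zero hL hG hn (he ▸ isHilbPoly_hp k hL hG))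
    have hne' : c ≠ b.1 := by
      intro hh
      obtain ⟨hC, -, pC, hpC, e⟩ := exists_quotient_poly hL hG h1 κ (isHilbPoly_hp k hL hG) hPQ
      obtain ⟨n, hn⟩ := exists_dimLT (k := k) (CohB1.support (cokernel κ))
      subst hh
      rw [he, add_sub_cancel_left, left_eq_add] at e
      haveI : Epi κ := Preadditive.epi_of_cokernel_zero
        ((isZero_of_isHilbPoly_zero hL hC hn (e ▸ hpC)).eq_zero_of_tgt _)
      exact hni (isIso_of_mono_of_epi κ)
    have hlt : a < (⟨c, hc⟩ : CohSub E) := lt_of_le_of_ne hac fun hh => hne (congrArg Subtype.val hh)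
    have hlt' : (⟨c, hc⟩ : CohSub E) < b := lt_of_le_of_ne hcb fun hh => hne' (congrArg Subtype.val hh)
    have := (lt_iff_redLT k hL hE hd a ⟨c, hc⟩ a b).1 (hs.lt_of ⟨c, hc⟩ hlt hlt')
    rwa [he, add_sub_cancel_left, hp_eq k hL hG hpF, ← isHilbPoly_unique hpE hPQ] at this
  · intro hs
    refine ⟨(ss_iff k hL hE hd a b h).2 (isStable_isSemistable hs), fun c hac hcb => ?_⟩
    obtain ⟨G, κ, hκ, hG, he⟩ := exists_sub k hL h hac.le hcb.le a.2 b.2 c.2
    rw [lt_iff_redLT, ← he]
    refine hs.2.2.2 G κ hκ hG (fun hz => hac.ne (Subtype.ext (eq_of_hp_eq k hL hac.le a.2 c.2 ?_)))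
      (fun hi => hcb.ne (Subtype.ext (eq_of_hp_eq k hL hcb.le c.2 b.2 ?_))) _ _ (isHilbPoly_hp k hL hG) hPQ
    · rw [hp_eq k hL hG (isHilbPoly_of_isZero hz)] at he
      exact (sub_eq_zero.1 he.symm).symm
    · have := isHilbPoly_unique (isHilbPoly_congr (asIso κ) (isHilbPoly_hp k hL hG)) hPQ
      rw [he] at this
      exact sub_left_inj.1 this

end GrothLib.Hilb20
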