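import Groth.Agent.Lib.Hilb20.JHSub
import Groth.Agent.Lib.Hilb20.FibreInj
import Groth.Agent.Lib.Hilb20.Saturation
import Groth.Agent.Lib.OX.LocFreeTensor

/-!
# Jordan-Hölder filtrations with locally free graded module
-/

set_option autoImplicit false
set_option linter.style.haveILetI false
set_option linter.unusedSectionVars false
set_option maxHeartbeats 1000000
set_option backward.isDefEq.respectTransparency.types false

universe u

open CategoryTheory CategoryTheory.Limits AlgebraicGeometry Polynomial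

noncomputable section

namespace GrothLib.Hilb20

variable {X : Scheme.{u}}

theorem locFree_grObj {E : X.Modules} (s : LTSeries (Subobject E)) (U : X.Opens)
    (h : ∀ i, FlatMod.IsFinLocFree ((StabCat.factor s i).restrict U.ι)) :
    FlatMod.IsFinLocFree ((StabCat.grObj s).restrict U.ι) := by
  let R := Scheme.Modules.restrictFunctor U.ι
  exact DCoh.isFinLocFree_of_iso (PreservesCoproduct.iso R fun i : Fin s.length => StabCat.factor s i).symm
    (OX.isFinLocFree_sigma (fun i : Fin s.length => R.obj (StabCat.factor s i)) h)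

variable {k : Type u} [Field k] [X.Over (Spec (CommRingCat.of k))]
  [IsProper (X ↘ Spec (CommRingCat.of k))] {L : X.Modules} {d : ℕ}

theorem isJH_of_factors (hL : CohB1.IsAmple L) {E G : X.Modules} (sE : LTSeries (Subobject E))
    (hsE : ShStab.IsJHFiltration k X L E d sE) {pG pE : ℚ[X]} (hpG : ShStab.IsHilbPoly k X L G pG)
    (hpE : ShStab.IsHilbPoly k X L E pE) (hαE : StabCat.alpha d pE ≠ 0) (hred : StabCat.RedEq d pG pE)
    (U : X.Opens) [IsLocallyNoetherian X] (hgr : FlatMod.IsFinLocFree ((StabCat.grObj sE).restrict U.ι))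
    (t : LTSeries (Subobject G)) (h1 : t.head = ⊥) (h2 : t.last = ⊤)
    (h3 : ∀ j : Fin t.length, ∃ i : Fin sE.length, Nonempty (StabCat.factor t j ≅ StabCat.factor sE i)) :
    ShStab.IsJHFiltration k X L G d t ∧ FlatMod.IsFinLocFree ((StabCat.grObj t).restrict U.ι) := by
  refine ⟨⟨h1, h2, fun j => ?_⟩, locFree_grObj t U fun j => ?_⟩
  · obtain ⟨i, ⟨e⟩⟩ := h3 j
    refine ⟨isStable_of_iso k e.symm (hsE.2.2 i).1, fun p q hp hq => ?_⟩
    rw [isHilbPoly_unique hq hpG]
    exact redEq_trans hαE ((hsE.2.2 i).2 p pE (isHilbPoly_congr e hp) hpE) (redEq_symm hred)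
  · obtain ⟨i, ⟨e⟩⟩ := h3 j
    exact DCoh.isFinLocFree_of_iso ((Scheme.Modules.restrictFunctor U.ι).mapIso e.symm) (locFree_factor sE U hgr i)

end GrothLib.Hilb20
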