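import Groth.Agent.Lib.Hilb20.GiesekerRun
import Groth.Agent.Lib.Slope20.Extension

/-!
# Slope data for `μ`-semistability
-/

set_option autoImplicit false
set_option linter.style.haveILetI false

universe u

open CategoryTheory CategoryTheory.Limits AlgebraicGeometry Polynomial

noncomputable section

namespace GrothLib.Hilb20

open GrothLib.Snapper (DimLT)
open StabCat (alpha hatSlope)
open GrothLib.Slope20

variable {X : Scheme.{u}} (k : Type u) [Field k] [X.Over (Spec (CommRingCat.of k))]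
  [IsProper (X ↘ Spec (CommRingCat.of k))] [IsLocallyNoetherian X] {L E : X.Modules} {d : ℕ}

/-- The next to top coefficient. -/
def alphaHom (d : ℕ) : ℚ[X] →+ ℚ where
  toFun := alpha (d - 1)
  map_zero' := by simp [alpha]
  map_add' P Q := alpha_add (d - 1) P Q

/-- The slope data of `μ`-stability. -/
def muData (hd1 : 1 ≤ d) (hL : CohB1.IsAmple L) (hE : Coh.IsCoh E) (hd : DimLT (CohB1.support E) (d + 1)) :
    letI := cohSubLattice hE
    SlopeData (CohSub E) ℚ :=
  slopeData k d hL hE hd (alphaHom d) fun M hM hdM P hP =>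
    alpha_nonneg hL hM (show DimLT (CohB1.support M) (d - 1 + 1) by rwa [Nat.sub_add_cancel hd1]) hP

variable (hd1 : 1 ≤ d) (hL : CohB1.IsAmple L) (hE : Coh.IsCoh E) (hd : DimLT (CohB1.support E) (d + 1))

theorem cast_r_mu (a b : CohSub E) :
    letI := cohSubLattice hE
    ((muData k hd1 hL hE hd).r a b : ℚ) =
      alpha d (hp k L (b.1 : X.Modules) - hp k L (a.1 : X.Modules)) :=
  cast_r k hL hE hd a b

theorem d_mu (a b : CohSub E) :
    letI := cohSubLattice hE
    (muData k hd1 hL hE hd).d a b =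
      alpha (d - 1) (hp k L (b.1 : X.Modules) - hp k L (a.1 : X.Modules)) := by
  letI := cohSubLattice hE
  rw [alpha_sub]
  rfl

theorem le_iff_hatSlope (a b c e : CohSub E)
    (h1 : 0 < alpha d (hp k L (b.1 : X.Modules) - hp k L (a.1 : X.Modules)))
    (h2 : 0 < alpha d (hp k L (e.1 : X.Modules) - hp k L (c.1 : X.Modules))) :
    letI := cohSubLattice hE
    (muData k hd1 hL hE hd).Le a b c e ↔
      hatSlope d (hp k L (b.1 : X.Modules) - hp k L (a.1 : X.Modules)) ≤
        hatSlope d (hp k L (e.1 : X.Modules) - hp k L (c.1 : X.Modules)) := by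
  letI := cohSubLattice hE
  show (muData k hd1 hL hE hd).r c e • (muData k hd1 hL hE hd).d a b ≤
    (muData k hd1 hL hE hd).r a b • (muData k hd1 hL hE hd).d c e ↔ _
  rw [zsmul_eq_mul, zsmul_eq_mul, cast_r_mu, cast_r_mu, d_mu, d_mu, hatSlope, hatSlope, div_le_div_iff₀ h1 h2]
  constructor <;> intro h <;> linarith

theorem lt_iff_hatSlope (a b c e : CohSub E)
    (h1 : 0 < alpha d (hp k L (b.1 : X.Modules) - hp k L (a.1 : X.Modules)))
    (h2 : 0 < alpha d (hp k L (e.1 : X.Modules) - hp k L (c.1 : X.Modules))) :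
    letI := cohSubLattice hE
    (muData k hd1 hL hE hd).Lt a b c e ↔
      hatSlope d (hp k L (b.1 : X.Modules) - hp k L (a.1 : X.Modules)) <
        hatSlope d (hp k L (e.1 : X.Modules) - hp k L (c.1 : X.Modules)) := by
  letI := cohSubLattice hE
  show (muData k hd1 hL hE hd).r c e • (muData k hd1 hL hE hd).d a b <
    (muData k hd1 hL hE hd).r a b • (muData k hd1 hL hE hd).d c e ↔ _
  rw [zsmul_eq_mul, zsmul_eq_mul, cast_r_mu, cast_r_mu, d_mu, d_mu, hatSlope, hatSlope, div_lt_div_iff₀ h1 h2]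
  constructor <;> intro h <;> linarith

omit [IsProper (X ↘ Spec (CommRingCat.of k))] [IsLocallyNoetherian X] in
theorem isMuSemistable_of_iso {E' : X.Modules} (e : E ≅ E') (h : ShStab.IsMuSemistable k X L E d) :
    ShStab.IsMuSemistable k X L E' d := by
  refine ⟨QCoh.isCoh_of_iso e h.1, fun hz => h.2.1 (hz.of_iso e), ?_,
    fun F ι hι => h.2.2.2.1 F (ι ≫ e.inv) (haveI := hι; inferInstance),
    fun F ι hι hF pF pE hpF hpE => ?_⟩
  · have hs : CohB1.support E' = CohB1.support E :=
      (QCoh.support_subset_of_mono e.inv).antisymm (QCoh.support_subset_of_mono e.hom)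
    rw [hs]; exact h.2.2.1
  · haveI := hι
    exact h.2.2.2.2 F (ι ≫ e.inv) inferInstance hF pF pE hpF (isHilbPoly_congr e.symm hpE)

omit [IsProper (X ↘ Spec (CommRingCat.of k))] [IsLocallyNoetherian X] in
theorem muClauses_of_isPure {Q : X.Modules} (hQ : Coh.IsCoh Q) (h0 : ¬ IsZero Q) (hp' : ShStab.IsPure X Q d) :
    topologicalKrullDim (CohB1.support Q) = (d : WithBot ℕ∞) ∧
    ∀ (F : X.Modules) (ι : F ⟶ Q), Mono ι → Coh.IsCoh F →
      topologicalKrullDim (CohB1.support F) + 1 ≠ (d : WithBot ℕ∞) := by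
  refine ⟨hp' Q (𝟙 Q) inferInstance hQ h0, fun F ι hι hF he => ?_⟩
  by_cases hz : IsZero F
  · have hb : topologicalKrullDim (CohB1.support F) = ⊥ := by
      rw [support_eq_empty_of_isZero hz]
      haveI : IsEmpty (TopologicalSpace.IrreducibleCloseds ((∅ : Set X) : Set X)) :=
        ⟨fun s => s.isIrreducible.nonempty.elim fun x _ => x.2⟩
      exact Order.krullDim_eq_bot
    rw [hb, WithBot.bot_add] at he
    exact WithBot.bot_ne_coe he
  · rw [hp' F ι hι hF hz] at he
    have : (d + 1 : ℕ) = d := by exact_mod_cast he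
    omega

theorem muSS_iff (a b : CohSub E) (h : a.1 ≤ b.1) :
    letI := cohSubLattice hE
    (muData k hd1 hL hE hd).SS a b ↔
      ShStab.IsPure X (cokernel (Subobject.ofLE a.1 b.1 h)) d ∧
        ShStab.IsMuSemistable k X L (cokernel (Subobject.ofLE a.1 b.1 h)) d := by
  letI := cohSubLattice hE
  have hQ := QCoh.isCoh_cokernel (Subobject.ofLE a.1 b.1 h) a.2 b.2
  have hPQ := isHilbPoly_cokernel_ofLE k hL h a.2 b.2
  constructor
  · intro hs
    have hp' : ShStab.IsPure X (cokernel (Subobject.ofLE a.1 b.1 h)) d :=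
      (pure_iff k hL hE hd a b h).1 hs.pure
    have h0 : ¬ IsZero (cokernel (Subobject.ofLE a.1 b.1 h)) := fun hz => hs.lt.ne
      (Subtype.ext (eq_of_hp_eq k hL h a.2 b.2
        (sub_eq_zero.1 (isHilbPoly_unique hPQ (isHilbPoly_of_isZero hz))).symm))
    obtain ⟨hdim, hsub⟩ := muClauses_of_isPure hQ h0 hp'
    refine ⟨hp', hQ, h0, hdim, hsub, fun G κ hκ hG pF pE hpF hpE h1 h2 => ?_⟩
    haveI := hκ
    obtain ⟨c, hc, hac, hcb, he⟩ := exists_mid k hL h a.2 b.2 κ hG
    have hle := hs.le_of ⟨c, hc⟩ hac hcb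
    rw [hp_eq k hL hG hpF] at he
    have hE' : pE = hp k L (b.1 : X.Modules) - hp k L (a.1 : X.Modules) := isHilbPoly_unique hpE hPQ
    have e1 : hp k L (c : X.Modules) - hp k L (a.1 : X.Modules) = pF := by rw [he, add_sub_cancel_left]
    have := (le_iff_hatSlope k hd1 hL hE hd a ⟨c, hc⟩ a b (by show 0 < alpha d (hp k L (c : X.Modules) - _); rw [e1]; exact h1)
      (by rw [← hE']; exact h1.trans h2)).1 hle
    rwa [show hp k L ((⟨c, hc⟩ : CohSub E).1 : X.Modules) - hp k L (a.1 : X.Modules) = pF from e1, ← hE'] at this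
  · rintro ⟨hp', hs⟩
    have hab : a < b := lt_of_le_of_ne h fun hh => hs.2.1 (by
      obtain ⟨n, hn⟩ := exists_dimLT (k := k) (CohB1.support (cokernel (Subobject.ofLE a.1 b.1 h)))
      refine isZero_of_isHilbPoly_zero (k := k) hL hQ hn ?_
      have hh' : hp k L (b.1 : X.Modules) = hp k L (a.1 : X.Modules) :=
        congrArg (fun S : CohSub E => hp k L (S.1 : X.Modules)) hh.symm
      rwa [hh', sub_self] at hPQ)
    have hpu : (muData k hd1 hL hE hd).Pure a b := (pure_iff k hL hE hd a b h).2 hp'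
    refine ⟨hab, hpu, fun c hac hcb => ?_⟩
    rcases eq_or_lt_of_le hac with rfl | hac
    · exact SlopeData.le_self _ _ _ _
    have hr := SlopeData.Pure.r_pos _ hpu hac hcb
    have hrab := SlopeData.Pure.r_pos _ hpu hab le_rfl
    have hR := (muData k hd1 hL hE hd).R_mono c b hcb
    rcases eq_or_lt_of_le hR with hR | hR
    · have h1 : (muData k hd1 hL hE hd).r a c = (muData k hd1 hL hE hd).r a b := by
        simp only [SlopeData.r]; omega
      have h2 : (muData k hd1 hL hE hd).d a c ≤ (muData k hd1 hL hE hd).d a b :=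
        sub_le_sub_right ((muData k hd1 hL hE hd).V_mono c b hcb hR) _
      show _ ≤ _
      rw [h1]
      exact Slope20.zle hrab.le h2
    obtain ⟨G, κ, hκ, hG, he⟩ := exists_sub k hL h hac.le hcb a.2 b.2 c.2
    have h1 : 0 < alpha d (hp k L (c.1 : X.Modules) - hp k L (a.1 : X.Modules)) := by
      rw [← cast_r_mu k hd1 hL hE hd a c]; exact_mod_cast hr
    have h2 : 0 < alpha d (hp k L (b.1 : X.Modules) - hp k L (a.1 : X.Modules)) := by
      rw [← cast_r_mu k hd1 hL hE hd a b]; exact_mod_cast hrab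
    rw [le_iff_hatSlope k hd1 hL hE hd a c a b h1 h2, ← he]
    refine hs.2.2.2.2 G κ hκ hG _ _ (isHilbPoly_hp k hL hG) hPQ (he ▸ h1) ?_
    rw [he, ← cast_r_mu k hd1 hL hE hd a c, ← cast_r_mu k hd1 hL hE hd a b]
    exact_mod_cast (by simp only [SlopeData.r]; omega :
      (muData k hd1 hL hE hd).r a c < (muData k hd1 hL hE hd).r a b)

theorem alpha_pos_of_ss {a b : CohSub E}
    (h : letI := cohSubLattice hE; (muData k hd1 hL hE hd).SS a b) :
    0 < alpha d (hp k L (b.1 : X.Modules) - hp k L (a.1 : X.Modules)) := by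
  letI := cohSubLattice hE
  rw [← cast_r_mu k hd1 hL hE hd a b]
  exact_mod_cast SlopeData.SS.r_pos _ h

theorem isMuHN_iff (s : LTSeries (CohSub E)) :
    letI := cohSubLattice hE
    (muData k hd1 hL hE hd).IsHN (botC E) (topC hE) s ↔
      (chainVal s).head = ⊥ ∧ (chainVal s).last = ⊤ ∧
      (∀ i : Fin s.length, ShStab.IsPure X (StabCat.factor (chainVal s) i) d ∧
        ShStab.IsMuSemistable k X L (StabCat.factor (chainVal s) i) d) ∧
      ∀ (i j : Fin s.length), i.val + 1 = j.val →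
        ∀ (p q : ℚ[X]), ShStab.IsHilbPoly k X L (StabCat.factor (chainVal s) i) p →
          ShStab.IsHilbPoly k X L (StabCat.factor (chainVal s) j) q → hatSlope d q < hatSlope d p := by
  letI := cohSubLattice hE
  constructor
  · intro h
    refine ⟨congrArg Subtype.val h.head, congrArg Subtype.val h.last,
      fun i => (muSS_iff k hd1 hL hE hd _ _ (le_of_lt (s.step i) : (s i.castSucc).1 ≤ (s i.succ).1)).1 (h.ss i),
      fun i j hij p q hp' hq => ?_⟩
    rw [isHilbPoly_unique hp' (isHilbPoly_factor k hL s i), isHilbPoly_unique hq (isHilbPoly_factor k hL s j)]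
    exact (lt_iff_hatSlope k hd1 hL hE hd _ _ _ _ (alpha_pos_of_ss k hd1 hL hE hd (h.ss j))
      (alpha_pos_of_ss k hd1 hL hE hd (h.ss i))).1 (h.decr i j hij)
  · rintro ⟨h1, h2, h3, h4⟩
    have hss : ∀ i : Fin s.length, (muData k hd1 hL hE hd).SS (s i.castSucc) (s i.succ) := fun i =>
      (muSS_iff k hd1 hL hE hd _ _ (le_of_lt (s.step i) : (s i.castSucc).1 ≤ (s i.succ).1)).2 (h3 i)
    exact ⟨Subtype.ext h1, Subtype.ext h2, hss,
      fun i j hij => (lt_iff_hatSlope k hd1 hL hE hd _ _ _ _ (alpha_pos_of_ss k hd1 hL hE hd (hss j))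
        (alpha_pos_of_ss k hd1 hL hE hd (hss i))).2
        (h4 i j hij _ _ (isHilbPoly_factor k hL s i) (isHilbPoly_factor k hL s j))⟩

end GrothLib.Hilb20
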