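import Groth.Agent.Lib.Hilb20.SlopeCoh

/-!
# Submodules of a subquotient
-/

set_option autoImplicit false
set_option linter.style.haveILetI false

universe u

open CategoryTheory CategoryTheory.Limits AlgebraicGeometry Polynomial

noncomputable section

namespace GrothLib.Hilb20

open GrothLib.Snapper (DimLT)
open StabCat (alpha)

variable {X : Scheme.{u}} (k : Type u) [Field k] [X.Over (Spec (CommRingCat.of k))]
  [IsProper (X ↘ Spec (CommRingCat.of k))] {L E : X.Modules} {a b : Subobject E}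

theorem eq_of_hp_eq (hL : CohB1.IsAmple L) {S T : Subobject E} (h : S ≤ T) (hS : Coh.IsCoh (S : X.Modules))
    (hT : Coh.IsCoh (T : X.Modules)) (he : hp k L (S : X.Modules) = hp k L (T : X.Modules)) : S = T := by
  haveI := Slope20.mono_ofLE h
  obtain ⟨hC, -, pC, hpC, e⟩ := exists_quotient_poly hL hS hT (Subobject.ofLE S T h) (isHilbPoly_hp k hL hS)
    (isHilbPoly_hp k hL hT)
  obtain ⟨n, hn⟩ := exists_dimLT (k := k) (CohB1.support (cokernel (Subobject.ofLE S T h)))
  rw [he, left_eq_add] at e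
  haveI : Epi (Subobject.ofLE S T h) := Preadditive.epi_of_cokernel_zero
    ((isZero_of_isHilbPoly_zero hL hC hn (e ▸ hpC)).eq_zero_of_tgt _)
  haveI : IsIso (Subobject.ofLE S T h) := isIso_of_mono_of_epi _
  exact le_antisymm h (Subobject.le_of_comm (inv (Subobject.ofLE S T h))
    (by rw [IsIso.inv_comp_eq, Subobject.ofLE_arrow]))

theorem hp_of_iso (hL : CohB1.IsAmple L) {M N : X.Modules} (e : M ≅ N) (hM : Coh.IsCoh M) :
    hp k L N = hp k L M :=
  hp_eq k hL (QCoh.isCoh_of_iso e hM) (isHilbPoly_congr e (isHilbPoly_hp k hL hM))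

theorem hp_bot (hL : CohB1.IsAmple L) (E : X.Modules) : hp k L ((⊥ : Subobject E) : X.Modules) = 0 :=
  hp_eq k hL (isCoh_bot E) (isHilbPoly_of_isZero ((isZero_zero _).of_iso Subobject.botCoeIsoZero))

/-- A submodule of a subquotient gives an intermediate submodule. -/
theorem exists_mid (hL : CohB1.IsAmple L) (h : a ≤ b) (ha : Coh.IsCoh (a : X.Modules))
    (hb : Coh.IsCoh (b : X.Modules)) {G : X.Modules} (κ : G ⟶ cokernel (Subobject.ofLE a b h)) [Mono κ]
    (hG : Coh.IsCoh G) :
    ∃ c : Subobject E, Coh.IsCoh (c : X.Modules) ∧ a ≤ c ∧ c ≤ b ∧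
      hp k L (c : X.Modules) = hp k L (a : X.Modules) + hp k L G := by
  haveI := Euler.isNoetherian_of_proper (X := X) k
  let π := cokernel.π (Subobject.ofLE a b h)
  let ψ := π ≫ cokernel.π κ
  have hQ := QCoh.isCoh_cokernel (Subobject.ofLE a b h) ha hb
  have hC := QCoh.isCoh_cokernel κ hG hQ
  have hK : Coh.IsCoh (kernel ψ) := QCoh.isCoh_kernel _ hb hC
  haveI : Epi ψ := epi_comp _ _
  let S := ShortComplex.mk (kernel.ι ψ) ψ (kernel.condition ψ)
  have hS : S.ShortExact := ShortComplex.ShortExact.mk'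
    (ShortComplex.exact_of_f_is_kernel S (kernelIsKernel ψ)) inferInstance inferInstance
  obtain ⟨-, -, pC, hpC, e1⟩ := exists_quotient_poly hL hG hQ κ (isHilbPoly_hp k hL hG)
    (isHilbPoly_cokernel_ofLE k hL h ha hb)
  have e2 := eq_add_of_shortExact hL.1 hS hK hb hC (isHilbPoly_hp k hL hK) (isHilbPoly_hp k hL hb) hpC
  refine ⟨Subobject.mk (kernel.ι ψ ≫ b.arrow), QCoh.isCoh_of_iso (Subobject.underlyingIso _).symm hK,
    ?_, Subobject.mk_le_of_comm (kernel.ι ψ) rfl, ?_⟩
  · refine Subobject.le_mk_of_comm (kernel.lift ψ (Subobject.ofLE a b h) ?_) ?_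
    · simp [ψ, π]
    · rw [kernel.lift_ι_assoc, Subobject.ofLE_arrow]
  · rw [hp_of_iso k hL (Subobject.underlyingIso (kernel.ι ψ ≫ b.arrow)).symm hK]
    linear_combination e1 - e2

/-- An intermediate submodule gives a submodule of the subquotient. -/
theorem exists_sub (hL : CohB1.IsAmple L) (h : a ≤ b) {c : Subobject E} (hac : a ≤ c) (hcb : c ≤ b)
    (ha : Coh.IsCoh (a : X.Modules)) (hb : Coh.IsCoh (b : X.Modules)) (hc : Coh.IsCoh (c : X.Modules)) :
    ∃ (G : X.Modules) (κ : G ⟶ cokernel (Subobject.ofLE a b h)), Mono κ ∧ Coh.IsCoh G ∧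
      hp k L G = hp k L (c : X.Modules) - hp k L (a : X.Modules) := by
  haveI := Euler.isNoetherian_of_proper (X := X) k
  let φ := Subobject.ofLE c b hcb ≫ cokernel.π (Subobject.ofLE a b h)
  have hQ := QCoh.isCoh_cokernel (Subobject.ofLE a b h) ha hb
  have hK := QCoh.isCoh_kernel φ hc hQ
  have hI := isCoh_image (k := k) φ hc hQ
  obtain ⟨w, hS⟩ := QCoh.shortExact_kernel_image φ
  haveI := Slope20.mono_ofLE h
  haveI := Slope20.mono_ofLE hac
  have hw : Subobject.ofLE a c hac ≫ φ = 0 := by simp [φ, Subobject.ofLE_comp_ofLE_assoc]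
  have hk : (kernel.ι φ ≫ Subobject.ofLE c b hcb) ≫ cokernel.π (Subobject.ofLE a b h) = 0 :=
    (Category.assoc _ _ _).trans (kernel.condition φ)
  let e : (a : X.Modules) ≅ kernel φ :=
    { hom := kernel.lift φ (Subobject.ofLE a c hac) hw
      inv := Abelian.monoLift (Subobject.ofLE a b h) _ hk
      hom_inv_id := by
        rw [← cancel_mono (Subobject.ofLE a b h), Category.assoc, Abelian.monoLift_comp, kernel.lift_ι_assoc,
          Subobject.ofLE_comp_ofLE, Category.id_comp]
      inv_hom_id := by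
        haveI := Slope20.mono_ofLE hcb
        rw [← cancel_mono (kernel.ι φ), Category.assoc, kernel.lift_ι, ← cancel_mono (Subobject.ofLE c b hcb),
          Category.assoc, Subobject.ofLE_comp_ofLE, Abelian.monoLift_comp, Category.id_comp] }
  have e2 := eq_add_of_shortExact hL.1 hS hK hc hI (isHilbPoly_hp k hL hK) (isHilbPoly_hp k hL hc)
    (isHilbPoly_hp k hL hI)
  refine ⟨Abelian.image φ, Abelian.image.ι φ, inferInstance, hI, ?_⟩
  rw [hp_of_iso k hL e ha] at e2
  linear_combination -e2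

end GrothLib.Hilb20
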